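import Mathlib
import Cfsg.Agent.Base
import Cfsg.Agent.Lib.MaxCl.Bicyc
import Cfsg.Agent.Lib.Core.Coprime
import Cfsg.Agent.Lib.Core.CoprimeNorm
import Cfsg.Agent.Lib.Core.Frobenius
import Cfsg.Agent.Lib.ZStar.UniqueInvol
import Cfsg.Agent.Lib.PGroup.Critical
import Cfsg.Agent.S1896

/-!
# The commutator of a `2`-group with an automorphism of odd order
-/

set_option autoImplicit false

namespace H93

open Subgroup Cfsg H83
open scoped commutatorElement

universe u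

variable {X : Type u} [Group X] {ω : MulAut X}

/-- The subgroup `[X, ω]`. -/
def cmw (ω : MulAut X) : Subgroup X := closure (Set.range fun y => y⁻¹ * ω y)

theorem mem_cmw (ω : MulAut X) (y : X) : y⁻¹ * ω y ∈ cmw ω := subset_closure ⟨y, rfl⟩

theorem cm_le {Y : Subgroup X} (h : ∀ y, y⁻¹ * ω y ∈ Y) : cmw ω ≤ Y :=
  (closure_le _).2 (by rintro _ ⟨y, rfl⟩; exact h y)

theorem apply_mem_cm {k : X} (hk : k ∈ cmw ω) : ω k ∈ cmw ω := by
  simpa using mul_mem hk (mem_cmw ω k)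

theorem map_cm_le {β : MulAut X} (h : ∀ y, y⁻¹ * β (ω (β⁻¹ y)) ∈ cmw ω) {k : X} (hk : k ∈ cmw ω) :
    β k ∈ cmw ω :=
  cm_le (Y := (cmw ω).comap β.toMonoidHom) (fun y => by simpa using h (β y)) hk

instance cm_normal : (cmw ω).Normal := ⟨fun k hk g => map_cm_le (β := MulAut.conj g) (fun y => by
  simpa [mul_assoc] using mul_mem (mem_cmw ω (g⁻¹ * y)) (inv_mem (mem_cmw ω g⁻¹))) hk⟩

theorem exists_fixed [Finite X] {N : Subgroup X} (hc : (orderOf ω).Coprime (Nat.card N))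
    (hN : ∀ y ∈ N, ω y ∈ N) {y : X} (hy : y⁻¹ * ω y ∈ N) : ∃ n ∈ N, ω (y * n) = y * n := by
  let H := X ⋊[MonoidHom.id _] MulAut X
  haveI : Finite H := Finite.of_equiv _ SemidirectProduct.equivProd.symm
  have hi : ∀ u, (SemidirectProduct.inr ω : H) * SemidirectProduct.inl u *
      (SemidirectProduct.inr ω)⁻¹ = SemidirectProduct.inl (ω u) := fun u => by
    rw [← map_inv, ← SemidirectProduct.inl_aut]; rfl
  have h1 : (SemidirectProduct.inr ω : H) ∈
      normalizer (N.map (SemidirectProduct.inl : X →* H) : Set H) :=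
    mem_normalizer_fintype (by rintro _ ⟨u, hu, rfl⟩; exact ⟨_, hN u hu, (hi u).symm⟩)
  obtain ⟨_, ⟨n, hn, rfl⟩, h⟩ := H2.exists_mul_mem_centralizer (zpowers_le.2 h1) (by
      rwa [Nat.card_zpowers, orderOf_injective _ SemidirectProduct.inr_injective,
        card_map_of_injective SemidirectProduct.inl_injective]) (Or.inl (H2.isSolvable_zpowers _))
    (g := SemidirectProduct.inl y) (fun a ha => by
      obtain ⟨n, rfl⟩ := H48.exists_pow_eq_of_mem_zpowers ha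
      induction n with
      | zero => simp
      | succ n ih =>
        have h2 : _ ∈ N.map (SemidirectProduct.inl : X →* H) := ⟨_, hy, rfl⟩
        rw [map_mul, ← hi, map_inv] at h2
        convert mul_mem h2 ((mem_normalizer_iff.1 h1 _).1 (ih (pow_mem (mem_zpowers _) n))) using 1
        rw [pow_succ']; group)
  refine ⟨n, hn, SemidirectProduct.inl_injective (G := MulAut X) (φ := MonoidHom.id _) ?_⟩
  rw [← hi, map_mul, h _ (mem_zpowers _), mul_inv_cancel_right]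

theorem coprime_card [Finite X] (h2 : IsPGroup 2 X) (ho : Odd (orderOf ω)) (N : Subgroup X) :
    (orderOf ω).Coprime (Nat.card N) := by
  haveI : Fact (Nat.Prime 2) := ⟨Nat.prime_two⟩
  obtain ⟨n, hn⟩ := (h2.to_subgroup N).exists_card_eq
  exact hn ▸ (Nat.coprime_two_right.2 ho).pow_right n

theorem exists_dec [Finite X] (h2 : IsPGroup 2 X) (ho : Odd (orderOf ω)) (y : X) :
    ∃ k ∈ cmw ω, ∃ c, ω c = c ∧ y = c * k :=
  let ⟨n, hn, e⟩ := exists_fixed (coprime_card h2 ho _) (fun _ => apply_mem_cm) (mem_cmw ω y)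
  ⟨n⁻¹, inv_mem hn, y * n, e, by simp⟩

theorem cm_le_of [Finite X] (h2 : IsPGroup 2 X) (ho : Odd (orderOf ω)) {Y : Subgroup X}
    (h : ∀ k ∈ cmw ω, k⁻¹ * ω k ∈ Y) : cmw ω ≤ Y := cm_le fun y => by
  obtain ⟨k, hk, c, hc, rfl⟩ := exists_dec h2 ho y
  simpa [hc, mul_assoc] using h k hk

/-- The automorphisms acting trivially on the cosets of `N`. -/
def trv (N : Subgroup X) : Subgroup (MulAut X) where
  carrier := {α | ∀ y, y⁻¹ * α y ∈ N}
  one_mem' := fun y => by simp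
  mul_mem' := fun {α β} hα hβ y => by simpa [mul_assoc] using mul_mem (hβ y) (hα (β y))
  inv_mem' := fun {α} hα y => by simpa using inv_mem (hα (α⁻¹ y))

theorem trv_mem {N : Subgroup X} {α : MulAut X} (h : α ∈ trv N) {y : X} (hy : y ∈ N) : α y ∈ N := by
  simpa using mul_mem hy (h y)

theorem exists_res [Finite X] (h2 : IsPGroup 2 X) (ho : Odd (orderOf ω)) :
    ∃ β : MulAut (cmw ω), (∀ k, (β k : X) = ω k) ∧ orderOf β ∣ orderOf ω ∧ cmw β = ⊤ := by
  let φ := H2.subAut (zpowers ω).subtype (cmw ω) fun a y hy =>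
    trv_mem (zpowers_le.2 (show ω ∈ trv (cmw ω) from mem_cmw ω) a.2) hy
  refine ⟨φ ⟨ω, mem_zpowers ω⟩, fun _ => rfl,
    (orderOf_map_dvd φ _).trans (orderOf_coe (⟨ω, mem_zpowers ω⟩ : zpowers ω)).symm.dvd, ?_⟩
  have := cm_le_of h2 ho (Y := (cmw (φ ⟨ω, mem_zpowers ω⟩)).map (cmw ω).subtype)
    fun k hk => ⟨_, mem_cmw _ ⟨k, hk⟩, rfl⟩
  refine eq_top_iff.2 fun k _ => ?_
  obtain ⟨v, hv, e⟩ := this k.2
  rwa [← Subtype.ext e]

theorem map_mem_cm_of {β : MulAut X} {q : X} {n : ℕ} (h3 : ω ^ 3 = 1) (hq : q ^ 2 ^ n = 1)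
    (h : ∀ y, β (ω (β⁻¹ (ω y))) = q * y * q⁻¹) {k : X} (hk : k ∈ cmw ω) : β k ∈ cmw ω := by
  let π := QuotientGroup.mk' (cmw ω)
  have h1 : ∀ y, π (ω y) = π y := fun y => (QuotientGroup.eq.2 (mem_cmw ω y)).symm
  have h2 : ∀ m : ℕ, ∀ y, π (((β * ω * β⁻¹) ^ m) y) = π q ^ m * π y * (π q ^ m)⁻¹ := fun m => by
    induction m with
    | zero => simp
    | succ m ih =>
      intro y
      obtain ⟨y, rfl⟩ := ω.surjective y
      rw [pow_succ, MulAut.mul_apply, ih, MulAut.mul_apply, MulAut.mul_apply, h, h1, map_mul,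
        map_mul, map_inv, pow_succ]
      group
  refine map_cm_le (fun y => QuotientGroup.eq.1 (show π y = π _ from ?_)) hk
  have h4 := h2 (2 ^ (n * 2)) y
  rwa [conj_pow, ← map_pow, pow_mul 2, pow_two (2 ^ n), pow_mul q, hq, one_pow, map_one, one_mul,
    inv_one, mul_one, ← pow_two, ← pow_mul, pow_eq_pow_mod _ h3, mul_comm n, pow_mul,
    Nat.pow_mod, show 2 ^ 2 % 3 = 1 from rfl, one_pow, show 1 % 3 = 1 from rfl, pow_one, eq_comm] at h4

section Top

variable [Finite X] (hK : cmw ω = ⊤)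
include hK

omit [Finite X] in
theorem eq_top_of {Y : Subgroup X} (h : ∀ y, y⁻¹ * ω y ∈ Y) : Y = ⊤ := top_le_iff.1 (hK ▸ cm_le h)

theorem mem_of_fix {N : Subgroup X} (hc : commutator X ≤ N) (hN : ∀ y ∈ N, ω y ∈ N) {y : X}
    (hy : y⁻¹ * ω y ∈ N) : y ∈ N := by
  haveI := normal_of_comm_le hc
  haveI := Normal.quotient_commutative_iff_commutator_le.2 hc
  let φ : X →* X ⧸ N := MonoidHom.mk' (fun y => (y⁻¹ * ω y : X)) fun a b => by
    simp only [mul_inv_rev, map_mul, QuotientGroup.mk_mul, QuotientGroup.mk_inv]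
    rw [mul_assoc, ← mul_assoc (a : X ⧸ N)⁻¹, ← mul_assoc, mul_comm' (b : X ⧸ N)⁻¹, mul_assoc]
  have h1 : φ.range = ⊤ := eq_top_iff.2 fun v _ => by
    obtain ⟨v, rfl⟩ := QuotientGroup.mk_surjective v
    exact (eq_top_of hK (Y := φ.range.comap (QuotientGroup.mk' N)) fun y => ⟨y, rfl⟩).ge (mem_top v)
  have h2 : N ≤ φ.ker := fun n hn => (QuotientGroup.eq_one_iff _).2 (mul_mem (inv_mem hn) (hN n hn))
  have h3 : N.relIndex φ.ker = 1 := by
    have := relIndex_mul_index h2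
    rw [index_ker, h1, card_top, ← index_eq_card] at this
    exact (mul_eq_right₀ FiniteIndex.index_ne_zero).1 this
  exact relIndex_eq_one.1 h3 ((QuotientGroup.eq_one_iff _).2 hy)

omit [Finite X] in
theorem index_ne_two {N : Subgroup X} (hN : ∀ y, ω y ∈ N ↔ y ∈ N) : N.index ≠ 2 := fun h => by
  rw [eq_top_of hK fun y => (mul_mem_iff_of_index_two h).2 (by rw [inv_mem_iff, hN])] at h
  simp at h

theorem index_le_four_of_three (h2 : IsPGroup 2 X) (h3 : ω ^ 3 = 1) (h8 : (frattini X).index ≤ 8) :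
    (frattini X).index ≤ 4 := by
  haveI : Fact (Nat.Prime 2) := ⟨Nat.prime_two⟩
  haveI : Fact (Nat.Prime 3) := ⟨Nat.prime_three⟩
  by_cases h1 : ω = 1
  · rw [eq_top_of hK (Y := frattini X) fun y => by simp [h1]]; simp
  let φ := H2.quotAut (zpowers ω).subtype (frattini X)
    fun a y hy => H5.aut_mem_of_characteristic inferInstance _ hy
  have h4 := H2.card_modEq_one_of_fpf φ (fun a ha v hv => by
      obtain ⟨v, rfl⟩ := QuotientGroup.mk_surjective v
      have h5 := zpowers_le.2 (show φ a ∈ MulAction.stabilizer _ (v : X ⧸ frattini X) from hv)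
      rw [← MonoidHom.map_zpowers, zpowers_eq_top_of_prime_card
        (by rw [Nat.card_zpowers, orderOf_eq_prime h3 h1]) ha] at h5
      exact (QuotientGroup.eq_one_iff _).2 (mem_of_fix hK (H5.commutator_le_frattini h2)
        (fun y hy => H5.aut_mem_of_characteristic inferInstance _ hy)
        (QuotientGroup.eq.1 (Eq.symm (h5 ⟨⟨ω, mem_zpowers ω⟩, trivial, rfl⟩)))))
  rw [Nat.card_zpowers, orderOf_eq_prime h3 h1, ← index_eq_card] at h4
  obtain ⟨n, hn⟩ := h2.index (frattini X)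
  rw [hn] at h4 h8 ⊢
  have : n ≤ 3 := (Nat.pow_le_pow_iff_right one_lt_two).1 h8
  interval_cases n <;> simp_all [Nat.ModEq]

theorem index_le_four_of_m3 (h2 : IsPGroup 2 X) (h8 : (frattini X).index ≤ 8) {M : Subgroup X}
    (hM : ∀ y, y * y ∈ M) (hs : SR 2 M) (h3 : m3 X ≠ ⊤) : (frattini X).index ≤ 4 := by
  haveI : Fact (Nat.Prime 2) := ⟨Nat.prime_two⟩
  have hF : frattini X ≤ M := by
    rw [H5.frattini_eq_closure_sq h2, closure_le]
    rintro _ ⟨u, rfl⟩
    simpa [pow_two] using hM u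
  have h4 : (m3 X).index ≤ 4 := by
    have hs' : Function.Surjective (Abelianization.of : X →* _) := QuotientGroup.mk_surjective
    rw [m3, index_comap_of_surjective _ hs', index_comap, ← map_comap_eq_self_of_surjective hs'
      (powMonoidHom 2).range, ← relIndex_comap]
    refine sr_subgroup_iff.1 hs _ _ (fun y ⟨u, hu⟩ => ?_) (comap_mono ?_) fun y ⟨u, hu⟩ => ⟨u, ?_⟩
    · obtain ⟨u, rfl⟩ := hs' u
      have := hF (H5.commutator_le_frattini h2 (QuotientGroup.eq.1 (show Abelianization.of (u * u) =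
        Abelianization.of y by rw [map_mul, ← pow_two]; exact hu)))
      exact (mul_mem_cancel_left (inv_mem (hM u))).1 this
    · rintro _ ⟨u, rfl⟩
      exact ⟨u ^ 2, (pow_mul u 2 2).symm⟩
    · rw [map_mul, ← hu, powMonoidHom_apply, powMonoidHom_apply, ← pow_add]
  have h5 : (m3 X).index ≠ 2 := index_ne_two hK fun y =>
    ⟨fun h => by simpa using map_mem_m3 ω.symm.toMonoidHom h, map_mem_m3 ω.toMonoidHom⟩
  have h6 : (frattini X).relIndex (m3 X) ≠ 2 := fun h => by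
    have h7 : m3 X ≤ frattini X := fun y hy => by
      by_contra hn
      refine hn (mem_of_fix hK (H5.commutator_le_frattini h2)
        (fun y hy => H5.aut_mem_of_characteristic inferInstance _ hy) ?_)
      exact (mul_mem_iff_of_index_two h (a := ⟨y, hy⟩⁻¹) (b := ⟨_, map_mem_m3 ω.toMonoidHom hy⟩)).2
        (iff_of_false (fun h => hn (inv_mem_iff.1 h)) fun h => hn (by
          simpa using H5.aut_mem_of_characteristic inferInstance ω.symm (mem_subgroupOf.1 h)))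
    rw [relIndex_eq_one.2 h7] at h
    omega
  have h7 := relIndex_mul_index (BC.fr_le_m3 (G := X))
  obtain ⟨n, hn⟩ := h2.index (frattini X)
  have h9 : (m3 X).index ≠ 1 := fun h => h3 (index_eq_one.1 h)
  have : n ≤ 3 := (Nat.pow_le_pow_iff_right one_lt_two).1 (hn ▸ h8)
  rw [hn] at h7 ⊢
  generalize (m3 X).index = a at *
  generalize (frattini X).relIndex (m3 X) = c at *
  interval_cases n <;> try omega
  interval_cases a <;> omega

omit hK in
theorem inf_le_fr (h2 : IsPGroup 2 X) (h4 : (frattini X).index ≤ 4) {A B : Subgroup X}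
    (hA : A.index = 2) (hB : B.index = 2) (hn : A ≠ B) : A ⊓ B ≤ frattini X := by
  haveI : Fact (Nat.Prime 2) := ⟨Nat.prime_two⟩
  have h1 : ∀ C : Subgroup X, C.index = 2 → IsCoatom C := fun C hC =>
    H5.isCoatom_of_index_prime (hC ▸ Nat.prime_two)
  by_contra h
  have := eight_le_relIndex (K₀ := frattini X) (K₁ := A ⊓ B) (K₂ := A) (K₃ := ⊤)
    (le_inf (frattini_le_coatom (h1 A hA)) (frattini_le_coatom (h1 B hB))) inf_le_left le_top h
    (fun h3 => hn (((h1 A hA).le_iff.1 (h3.trans inf_le_right)).resolve_left (h1 B hB).1).symm)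
    (fun h3 => (h1 A hA).1 (top_le_iff.1 h3))
  rw [relIndex_top_right] at this
  omega

theorem sr_of_cm (h2 : IsPGroup 2 X) (ho : Odd (orderOf ω)) (h4 : (frattini X).index ≤ 4)
    {M : Subgroup X} (hM : M.index ∣ 2) (hs : SR 2 M) : SR 2 X := by
  haveI : Fact (Nat.Prime 2) := ⟨Nat.prime_two⟩
  rcases (Nat.dvd_prime Nat.prime_two).1 hM with hM | hM
  · exact hs.of_surjective M.subtype fun y => ⟨⟨y, index_eq_one.1 hM ▸ mem_top y⟩, rfl⟩
  let C : MulAut X → Subgroup X := fun α => M.comap α.toMonoidHom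
  have c1 : ∀ α, (C α).index = 2 := fun α => (index_comap_of_surjective _ α.surjective).trans hM
  have c2 : ∀ α, SR 2 (C α) := fun α => hs.of_injective (α.toMonoidHom.subgroupComap M)
    fun a b e => Subtype.ext (α.injective (congrArg Subtype.val e))
  have c3 : ∀ α, C α ≠ C (α * ω) := fun α e =>
    index_ne_two hK (N := C α) (fun y => (SetLike.ext_iff.1 e y).symm) (c1 α)
  have c4 : C 1 ≠ C (ω * ω) := fun e => by
    obtain ⟨k, hk⟩ := ho
    have h5 : ∀ n : ℕ, ∀ y, ((ω * ω) ^ n) y ∈ M ↔ y ∈ M := fun n => by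
      induction n with
      | zero => simp
      | succ n ih => exact fun y => by rw [pow_succ', MulAut.mul_apply, ← ih y]; exact (SetLike.ext_iff.1 e _).symm
    refine index_ne_two hK (fun y => ?_) hM
    rw [← h5 (k + 1) y, ← pow_two, ← pow_mul, show 2 * (k + 1) = orderOf ω + 1 by omega, pow_succ,
      pow_orderOf_eq_one, one_mul]
  intro H K hKH hsq
  by_cases hH : H = ⊤
  · subst hH
    rw [relIndex_top_right]
    refine (index_antitone ?_).trans h4
    rw [H5.frattini_eq_closure_sq h2, closure_le]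
    rintro _ ⟨u, rfl⟩
    simpa [pow_two] using hsq u trivial
  obtain ⟨N, h5, -, h6, h7⟩ := H5.exists_le_normal_index_eq h2 hH
  suffices ∃ α, N ≤ C α from
    let ⟨α, h⟩ := this; sr_subgroup_iff.1 (c2 α) H K (h5.trans h) hKH hsq
  by_cases e0 : N = C 1
  · exact ⟨1, e0.le⟩
  by_cases e1 : N = C ω
  · exact ⟨ω, e1.le⟩
  refine ⟨ω * ω, fun y hy => ?_⟩
  have hF : frattini X ≤ C (ω * ω) :=
    frattini_le_coatom (H5.isCoatom_of_index_prime (c1 _ ▸ Nat.prime_two))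
  by_cases h8 : y ∈ frattini X
  · exact hF h8
  have c5 := fun α => H5.isCoatom_of_index_prime (c1 α ▸ Nat.prime_two)
  obtain ⟨n, hn, h9⟩ := SetLike.not_le_iff_exists.1 fun h : C (ω * ω) ≤ frattini X =>
    c4 (((c5 _).le_iff.1 (h.trans (frattini_le_coatom (c5 1)))).resolve_left (c5 1).1)
  have k : ∀ α, N ≠ C α → C α ≠ C (ω * ω) → y * n ∈ C α := fun α k1 k2 =>
    (mul_mem_iff_of_index_two (c1 α)).2 (iff_of_false
      (fun h => h8 (inf_le_fr h2 h4 h6 (c1 α) k1 ⟨hy, h⟩))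
      fun h => h9 (inf_le_fr h2 h4 (c1 α) (c1 _) k2 ⟨h, hn⟩))
  exact (mul_mem_cancel_right hn).1 (hF (inf_le_fr h2 h4 (c1 1) (c1 ω) (by simpa using c3 1)
    ⟨k 1 e0 c4, k ω e1 (c3 ω)⟩))

theorem q8_or_comm (h2 : IsPGroup 2 X) (ho : Odd (orderOf ω)) (h4 : (frattini X).index ≤ 4)
    {M : Subgroup X} (hM : M.index ∣ 2) (hs : SR 2 M) :
    SR 2 X ∧ (Nonempty (X ≃* QuaternionGroup 2) ∨ IsMulCommutative X) := by
  have h1 := sr_of_cm hK h2 ho h4 hM hs
  refine ⟨h1, ?_⟩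
  by_cases h3 : ω = 1
  · have h5 : ∀ y : X, y = 1 := fun y => (eq_top_of hK (Y := ⊥) fun y => by simp [h3]).ge (mem_top y)
    exact Or.inr ⟨⟨fun a b => (h5 _).trans (h5 _).symm⟩⟩
  refine (Agent.S1896.result h2 (mc_of_sr h2 h1).isMetacyclic fun h => h3 ?_).imp_right
    fun ⟨n, ⟨e⟩⟩ => ⟨⟨fun a b => e.injective (by rw [map_mul, map_mul, mul_comm])⟩⟩
  obtain ⟨k, hk⟩ := h ω
  exact orderOf_eq_one_iff.1 (Nat.Coprime.eq_one_of_dvd ((Nat.coprime_two_right.2 ho).pow_right k)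
    (orderOf_dvd_of_pow_eq_one hk))

end Top

theorem q8_facts (e : X ≃* QuaternionGroup 2) : ∃ z : X, z ∈ commutator X ∧ z * z = 1 ∧ z ≠ 1 ∧
    (∀ k : X, k * k = 1 ∨ k * k = z) ∧ ∀ k : X, k * k = 1 → k = 1 ∨ k = z := by
  refine ⟨⁅e.symm (.a 1), e.symm (.xa 0)⁆, comm_mem _ _, ?_, ?_, fun k => ?_, fun k => ?_⟩ <;>
    simp only [ne_eq, ← e.injective.eq_iff, map_mul, map_one, map_commutatorElement,
      MulEquiv.apply_symm_apply]
  · decide
  · decide
  · generalize e k = v; revert v; decide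
  · generalize e k = v; revert v; decide

theorem four_gen [Finite X] {Z Y K : Subgroup X} (h1 : Z ≤ Y) (h2 : Y ≤ K) (h4 : Z.relIndex K ≤ 4)
    {e e' : X} (he : e ∈ Y) (he' : e' ∈ Y) (n1 : e ∉ Z) (n2 : e' ∉ Z) (n3 : e⁻¹ * e' ∉ Z) :
    K ≤ Y := by
  by_contra h
  have h5 := two_le_relIndex h
  have h6 := two_le_relIndex (H := Y) (K := Z) fun h => n1 (h he)
  rw [← relIndex_mul_relIndex Z Y K h1 h2] at h4
  exact n3 ((mul_mem_iff_of_index_two (show Z.relIndex Y = 2 by nlinarith) (a := ⟨e, he⟩⁻¹)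
    (b := ⟨e', he'⟩)).2 (iff_of_false (fun h => n1 (inv_mem_iff.1 h)) n2))

/-! ### An automorphism of order three inverted by the normalizer -/

variable {G : Type u} [Group G]

/-- `f` is an automorphism of order dividing three of `Q`, inverted modulo inner automorphisms by
the elements of the normalizer outside `Q`. -/
structure OB (Q : Subgroup G) (f : G → G) : Prop where
  mul : ∀ u ∈ Q, ∀ v ∈ Q, f (u * v) = f u * f v
  mem : ∀ u ∈ Q, f u ∈ Q
  cube : ∀ u ∈ Q, f (f (f u)) = u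
  inv : ∀ g ∈ normalizer (Q : Set G), g ∉ Q →
    ∃ q ∈ Q, ∀ u ∈ Q, g * f (g⁻¹ * f u * g) * g⁻¹ = q * u * q⁻¹

namespace OB

variable {Q : Subgroup G} {f : G → G} (o : OB Q f)
include o

theorem map_one : f 1 = 1 := by simpa using o.mul 1 Q.one_mem 1 Q.one_mem

theorem map_inv {u : G} (hu : u ∈ Q) : f u⁻¹ = (f u)⁻¹ :=
  eq_inv_of_mul_eq_one_left (by rw [← o.mul _ (inv_mem hu) _ hu, inv_mul_cancel, o.map_one])

theorem map_comm {u v : G} (hu : u ∈ Q) (hv : v ∈ Q) : f ⁅u, v⁆ = ⁅f u, f v⁆ := by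
  rw [commutatorElement_def, o.mul _ (mul_mem (mul_mem hu hv) (inv_mem hu)) _ (inv_mem hv),
    o.mul _ (mul_mem hu hv) _ (inv_mem hu), o.mul _ hu _ hv, o.map_inv hu, o.map_inv hv]; rfl

theorem triv {K Y : Subgroup G} (hK : K ≤ Q) (hKf : ∀ k ∈ K, f k ∈ K) (hY : Y ≤ Q)
    (hYf : ∀ y ∈ Y, f y ∈ Y) {g : G} (h1 : g ∈ normalizer (Q : Set G)) (h2 : g ∉ Q)
    (hg : ∀ k ∈ K, k⁻¹ * (g⁻¹ * k * g) ∈ Y) (hg' : ∀ y ∈ Y, g * y * g⁻¹ ∈ Y)
    (hq : ∀ k ∈ K, ∀ q ∈ Q, k⁻¹ * (q * k * q⁻¹) ∈ Y) {k : G} (hk : k ∈ K) : k⁻¹ * f k ∈ Y := by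
  obtain ⟨q, hq', e⟩ := o.inv g h1 h2
  have h3 := hq k hk q hq'
  have h4 := hg _ (hKf k hk)
  rw [← e k (hK hk), ← mul_inv_cancel_left (f k) (g⁻¹ * f k * g), o.mul _ (hK (hKf k hk)) _ (hY h4)]
    at h3
  have h5 := mul_mem (mul_mem h3 (inv_mem (hg' _ (hYf _ h4)))) (hg' _ (hg _ (hKf _ (hKf k hk))))
  have h6 : k⁻¹ * f (f k) ∈ Y := by simpa [mul_assoc] using h5
  have h7 := inv_mem (hYf _ h6)
  rwa [o.mul _ (inv_mem (hK hk)) _ (hK (hKf _ (hKf k hk))), o.cube k (hK hk), o.map_inv (hK hk),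
    mul_inv_rev, inv_inv] at h7

end OB

/-- `K / Z` is a four-group on which `f` acts without fixed points. -/
structure KD (Q K Z : Subgroup G) (f : G → G) : Prop extends OB Q f where
  le : K ≤ Q
  zle : Z ≤ K
  zA : Z ≤ commutator G
  zz : ∀ z ∈ Z, z * z = 1
  sq : ∀ k ∈ K, k * k ∈ Z
  idx : Z.relIndex K ≤ 4
  ne : ¬ K ≤ Z
  memK : ∀ k ∈ K, f k ∈ K
  zf : ∀ z ∈ Z, f z = z
  fix : ∀ k ∈ K, k⁻¹ * f k ∈ Z → k ∈ Z
  nrm : ∀ g ∈ normalizer (Q : Set G), ∀ k ∈ K, g * k * g⁻¹ ∈ K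
  znrm : ∀ g ∈ normalizer (Q : Set G), ∀ z ∈ Z, g * z * g⁻¹ = z
  dec : ∀ u ∈ Q, ∃ k ∈ K, ∃ k' ∈ centralizer (K : Set G), ∃ c ∈ Q, f c = c ∧ u = c * k' * k

namespace KD

variable [Finite G] {Q K Z : Subgroup G} {f : G → G} (d : KD Q K Z f)
include d

omit [Finite G] in
theorem notMem {e : G} (he : e ∈ K) (hn : e ∉ Z) : f e ∉ Z := fun h =>
  hn (by rwa [← d.cube e (d.le he), d.zf _ h, d.zf _ h])

theorem le_of {Y : Subgroup G} (hZ : Z ≤ Y) {e : G} (he : e ∈ K) (hn : e ∉ Z) (h1 : e ∈ Y)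
    (h2 : f e ∈ Y) : K ≤ Y :=
  (four_gen (le_inf d.zle hZ) inf_le_left d.idx ⟨he, h1⟩ ⟨d.memK e he, h2⟩ hn (d.notMem he hn)
    fun h => hn (d.fix e he h)).trans inf_le_right

omit [Finite G] in
theorem le_nrm {g : G} (hg : g ∈ normalizer (Q : Set G)) : g ∈ normalizer (Z : Set G) :=
  centralizer_le_normalizer _ fun z hz => (mul_inv_eq_iff_eq_mul.1 (d.znrm g hg z hz)).symm

theorem comm_mem (h2 : IsPGroup 2 G) {k q : G} (hk : k ∈ K) (hq : q ∈ Q) : ⁅k, q⁆ ∈ Z := by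
  haveI : Fact (Nat.Prime 2) := ⟨Nat.prime_two⟩
  obtain ⟨e, he, hn, -, h⟩ := H5.exists_step_of_le (h2.to_subgroup Q) Z d.le
    (fun g hg => mem_normalizer_fintype (d.nrm g (le_normalizer hg))) d.ne
  refine (d.le_of (Y := H2.relCentralizer Q Z) (fun z hz => ⟨le_normalizer hz, fun u hu => ?_⟩) he hn
    ⟨d.le_nrm (le_normalizer (d.le he)), h⟩
    ⟨d.le_nrm (le_normalizer (d.mem _ (d.le he))), fun u hu => ?_⟩ hk).2 q hq
  · rw [← commutatorElement_inv, commutatorElement_def, d.znrm u (le_normalizer hu) z hz]; simp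
  · have h3 := d.mem _ (d.mem u hu)
    rw [← d.cube u hu, ← d.toOB.map_comm (d.le he) h3, d.zf _ (h _ h3)]
    exact h _ h3

theorem fixed_mem (h2 : IsPGroup 2 G) {c : G} (hc : c ∈ Q) (h : f c = c) :
    c ∈ centralizer (K : Set G) := by
  obtain ⟨e, he, hn⟩ := SetLike.not_le_iff_exists.1 d.ne
  have h1 : ∀ u ∈ K, ⁅f u, c⁆ = ⁅u, c⁆ := fun u hu => by
    rw [← d.zf _ (d.comm_mem h2 hu hc), d.toOB.map_comm (d.le hu) hc, h]
  have h3 := mul_mem (inv_mem he) (d.memK e he)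
  have h4 : ⁅e⁻¹ * f e, c⁆ = 1 := by
    have : ⁅e⁻¹ * f e, c⁆ = e⁻¹ * (⁅f e, c⁆ * ⁅e, c⁆⁻¹) * e := by
      simp only [commutatorElement_def]; group
    rw [this, h1 e he, mul_inv_cancel]; simp
  exact fun k hk => mem_centralizer_singleton_iff.1 (d.le_of (Y := centralizer {c})
    (fun z hz => mem_centralizer_singleton_iff.2
      (mul_inv_eq_iff_eq_mul.1 (d.znrm c (le_normalizer hc) z hz)).symm) h3
    (fun h => hn (d.fix e he h))
    (mem_centralizer_singleton_iff.2 (commutatorElement_eq_one_iff_mul_comm.1 h4))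
    (mem_centralizer_singleton_iff.2 (commutatorElement_eq_one_iff_mul_comm.1
      ((h1 _ h3).trans h4))) hk)

theorem dec' (h2 : IsPGroup 2 G) {u : G} (hu : u ∈ Q) :
    ∃ k ∈ K, ∃ c ∈ centralizer (K : Set G), u = c * k :=
  let ⟨k, hk, _, hk', _, hc, e, h⟩ := d.dec u hu
  ⟨k, hk, _, mul_mem (d.fixed_mem h2 hc e) hk', h⟩

theorem exists_comm (h2 : IsPGroup 2 G) {g : G} (h1 : g ∈ normalizer (Q : Set G)) (hn : g ∉ Q) :
    ∃ k ∈ K, ⁅k, g⁆ ∉ Z := by
  by_contra! h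
  refine d.ne fun k hk => d.fix k hk (d.toOB.triv d.le d.memK (d.zle.trans d.le)
    (fun z hz => (d.zf z hz).symm ▸ hz) h1 hn (fun k hk => ?_)
    (fun z hz => (d.znrm g h1 z hz).symm ▸ hz) (fun k hk q hq => ?_) hk)
  · have := d.znrm _ (inv_mem h1) _ (inv_mem (h _ (inv_mem hk)))
    convert this.symm ▸ inv_mem (h _ (inv_mem hk)) using 1
    simp only [commutatorElement_def]; group
  · simpa [commutatorElement_def, mul_assoc] using d.comm_mem h2 (inv_mem hk) hq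

end KD

namespace BC

variable [Finite G] {x b : G} (h : BC x b)
include h

/-- The elements of order at most two of the derived subgroup. -/
def om (h : BC x b) : Subgroup G where
  carrier := {a | a ∈ commutator G ∧ a * a = 1}
  one_mem' := ⟨one_mem _, one_mul 1⟩
  mul_mem' := fun {a c} ha hc => ⟨mul_mem ha.1 hc.1, by
    rw [Commute.mul_mul_mul_comm (h.ab _ hc.1 _ ha.1), ha.2, hc.2, one_mul]⟩
  inv_mem' := fun {a} ha => ⟨inv_mem ha.1, by rw [← mul_inv_rev, ha.2, inv_one]⟩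

omit [Finite G] in
theorem om_normal : h.om.Normal := ⟨fun a ha g =>
  ⟨(inferInstance : (commutator G).Normal).conj_mem _ ha.1 g, by rw [conj_mul, ha.2]; simp⟩⟩

theorem mem_m3_of_comm {t g : G} (ht : t ∈ m3 G) (hn : t ∉ frattini G) (hc : g * t = t * g) :
    g ∈ m3 G := by
  by_contra hg
  exact comm_notMem_rr h.pg h.nm (h.gen_of hg ht hn)
    (commutatorElement_eq_one_iff_mul_comm.2 hc ▸ one_mem _)

theorem mul_mem_fr' {t u : G} (ht : t ∈ m3 G) (hn : t ∉ frattini G) (hu : u ∈ m3 G)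
    (hn' : u ∉ frattini G) : t⁻¹ * u ∈ frattini G := by
  simpa [mul_assoc] using mul_mem (inv_mem (h.mul_mem_fr ht hn)) (h.mul_mem_fr hu hn')

theorem comm_of_comm {t u v : G} (ht : t ∈ m3 G) (hn : t ∉ frattini G) (hu : u * t = t * u)
    (hv : v * t = t * v) : u * v = v * u := by
  let C := frattini G ⊓ centralizer {t}
  have key : ∀ u ∈ C, ∀ v ∈ C, u * v = v * u := fun u hu v hv => by
    let φ : C →* zpowers (Abelianization.of x) := (Abelianization.of.comp C.subtype).codRestrict _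
      fun c => mem_comm_sup.1 (h.fr_le_sup c.2.1)
    refine congrArg Subtype.val ((φ.isMulCommutative_of_isCyclic_of_ker_le_center
      fun c hc => ?_).1.1 ⟨u, hu⟩ ⟨v, hv⟩)
    have h1 := of_eq_one_iff.1 (congrArg Subtype.val hc)
    exact mem_center_iff.2 fun g => Subtype.ext (h.centralizes h1 (h.sq_eq_one ht hn h1
      (mem_centralizer_singleton_iff.1 c.2.2).symm) (fr_le_m3 g.2.1))
  have k2 : ∀ u, u * t = t * u → ∃ c ∈ C, u = c ∨ u = t * c := fun u hu => by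
    have h1 := mem_centralizer_singleton_iff.2 hu
    by_cases h3 : u ∈ frattini G
    · exact ⟨u, ⟨h3, h1⟩, Or.inl rfl⟩
    · exact ⟨t⁻¹ * u, ⟨h.mul_mem_fr' ht hn (h.mem_m3_of_comm ht hn hu) h3,
        (centralizer {t}).mul_mem (inv_mem (mem_centralizer_singleton_iff.2 rfl)) h1⟩, Or.inr (by simp)⟩
  obtain ⟨c, hc, e⟩ := k2 u hu
  obtain ⟨c', hc', e'⟩ := k2 v hv
  have h1 : Commute c c' := key c hc c' hc'
  have h3 : Commute c t := mem_centralizer_singleton_iff.1 hc.2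
  have h4 : Commute t c' := (mem_centralizer_singleton_iff.1 hc'.2).symm
  rcases e with rfl | rfl <;> rcases e' with rfl | rfl
  exacts [h1, h3.mul_right h1, h4.mul_left h1,
    ((Commute.refl t).mul_right h4).mul_left (h3.mul_right h1)]

variable {Q K Z : Subgroup G} {f : G → G} (hC : centralizer (Q : Set G) ≤ Q) (hne : Q ≠ ⊤)
include hC hne

theorem om_le (d : KD Q K Z f) : h.om ≤ K := by
  haveI : Fact (Nat.Prime 2) := ⟨Nat.prime_two⟩
  intro w hw
  by_contra hwK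
  have hK : K ≤ m3 G := fun k hk => mem_m3_of_sq (d.zA (d.sq k hk))
  have hZ : Z ≤ h.om := fun z hz => ⟨d.zA hz, d.zz z hz⟩
  obtain ⟨t, ht, hn⟩ := SetLike.not_le_iff_exists.1 fun hF : K ≤ frattini G => by
    have h1 : w ∈ normalizer (K : Set G) :=
      centralizer_le_normalizer _ fun k hk => h.centralizes hw.1 hw.2 (hK hk)
    have h3 := sr_subgroup_iff.1 h.sr (K ⊔ zpowers w) Z (sup_le (hF.trans h.fr_le_sup)
      (le_sup_of_le_left (zpowers_le.2 hw.1))) (le_sup_of_le_left d.zle) fun u hu => by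
        obtain ⟨k, hk, i, rfl⟩ := (H5.mem_sup_zpowers_iff h1).1 hu
        have h4 := zpow_mem hw i
        rw [Commute.mul_mul_mul_comm (h.centralizes h4.1 h4.2 (hK hk)).symm, h4.2, mul_one]
        exact d.sq k hk
    obtain ⟨e, he, hn⟩ := SetLike.not_le_iff_exists.1 d.ne
    have h4 := eight_le_relIndex (K₀ := Z) (K₁ := Z ⊔ zpowers e) (K₂ := K) (K₃ := K ⊔ zpowers w)
      le_sup_left (sup_le d.zle (zpowers_le.2 he)) le_sup_left
      (fun h5 => hn (h5 (mem_sup_right (mem_zpowers e)))) (fun h5 => ?_)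
      fun h5 => hwK (h5 (mem_sup_right (mem_zpowers w)))
    · omega
    have h6 := H5.relIndex_sup_zpowers Nat.prime_two (d.le_nrm (le_normalizer (d.le he))) hn
      (pow_two e ▸ d.sq e he)
    exact hn (d.fix e he ((mul_mem_iff_of_index_two h6 (a := ⟨e, h5 he⟩⁻¹)
      (b := ⟨_, h5 (d.memK e he)⟩)).2 (iff_of_false (fun h => hn (inv_mem_iff.1 h)) (d.notMem he hn))))
  have hc : ∀ c ∈ centralizer (K : Set G), c * t = t * c := fun c hc => (hc t ht).symm
  have hW : h.om ≤ Q := fun a ha => hC fun u hu => by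
    obtain ⟨k, hk, c, hc', rfl⟩ := d.dec' h.pg hu
    exact h.centralizes ha.1 ha.2 (mul_mem (h.mem_m3_of_comm (hK ht) hn (hc c hc')) (hK hk))
  have hCK : centralizer (K : Set G) ≤ Q := fun a ha => hC fun u hu => by
    obtain ⟨k, hk, c, hc', rfl⟩ := d.dec' h.pg hu
    exact (Commute.mul_left (h.comm_of_comm (hK ht) hn (hc c hc') (hc a ha)) (ha k hk)).eq
  obtain ⟨s, hs, -, hs'⟩ := H5.exists_mem_normalizer_not_mem h.pg hne
  have cmw : ∀ g ∈ normalizer (Q : Set G), ∀ k ∈ K, ⁅k, g⁆ ∈ K := fun g hg k hk => by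
    simpa [commutatorElement_def, mul_assoc] using mul_mem hk (d.nrm g hg _ (inv_mem hk))
  have hu : ⁅t, s⁆ ∉ Z := fun hu => by
    obtain ⟨k, hk, h1⟩ := d.exists_comm h.pg hs' hs
    obtain ⟨k, hk, h3, h1⟩ : ∃ k ∈ K, k ∈ frattini G ∧ ⁅k, s⁆ ∉ Z := by
      by_cases h3 : k ∈ frattini G
      · exact ⟨k, hk, h3, h1⟩
      refine ⟨t⁻¹ * k, mul_mem (inv_mem ht) hk, h.mul_mem_fr' (hK ht) hn (hK hk) h3, fun h4 => h1 ?_⟩
      have := mul_mem ((mem_normalizer_iff.1 (d.le_nrm (le_normalizer (d.le ht))) _).1 h4) hu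
      convert this using 1
      simp only [commutatorElement_def]; group
    have h4 : k ∉ Z := fun h4 => h1 (by
      rw [← commutatorElement_inv, commutatorElement_def, d.znrm s hs' k h4]; simp)
    refine hn (four_gen (le_inf d.zle (d.zA.trans h.comm_le_fr)) inf_le_left d.idx
      (e := k⁻¹) (e' := s * k⁻¹ * s⁻¹) (inv_mem ⟨hk, h3⟩)
      ⟨d.nrm s hs' _ (inv_mem hk), (inferInstance : (frattini G).Normal).conj_mem _ (inv_mem h3) s⟩
      (by simpa using h4) (fun h5 => h4 ?_) (by simpa [commutatorElement_def, mul_assoc] using h1) ht).2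
    exact inv_mem_iff.1 ((mem_normalizer_iff.1 (d.le_nrm hs') _).2 h5)
  have hgen : ∀ Y : Subgroup G, Z ≤ Y → t ∈ Y → ⁅t, s⁆ ∈ Y → K ≤ Y := fun Y h1 h3 h4 =>
    (four_gen (le_inf d.zle h1) inf_le_left d.idx ⟨ht, h3⟩ ⟨cmw s hs' t ht, h4⟩
      (fun h5 => hn (h.comm_le_fr (d.zA h5))) hu fun h5 => hn (inv_mem_iff.1
        ((mul_mem_cancel_right (h.comm_le_fr (comm_mem t s))).1 (h.comm_le_fr (d.zA h5))))).trans
      inf_le_right
  have key : ∀ g, ⁅g, t⁆ ∈ h.om → ⁅g, ⁅t, s⁆⁆ ∈ h.om → g ∈ normalizer (Q : Set G) := fun g h1 h3 => by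
    have h4 : ∀ u ∈ K, ⁅g, u⁆ ∈ h.om → g * u * g⁻¹ ∈ K ⊔ h.om := fun u hu h5 => by
      simpa [commutatorElement_def] using mul_mem (mem_sup_right h5) (mem_sup_left hu : _ ∈ K ⊔ h.om)
    have h5 : g ∈ normalizer ((K ⊔ h.om : Subgroup G) : Set G) := mem_normalizer_fintype fun u hu =>
      (sup_le (hgen ((K ⊔ h.om).comap (MulAut.conj g).toMonoidHom)
        (fun z hz => mem_sup_right (h.om_normal.conj_mem _ (hZ hz) g)) (h4 t ht h1)
        (h4 _ (cmw s hs' t ht) h3)) fun a ha => mem_sup_right (h.om_normal.conj_mem _ ha g)) hu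
    refine mem_normalizer_fintype fun u hu => ?_
    obtain ⟨k, hk, c, hc', rfl⟩ := d.dec' h.pg hu
    rw [← conj_mul]
    refine mul_mem (hCK fun v hv => ?_)
      (sup_le d.le hW ((mem_normalizer_iff.1 h5 _).1 (mem_sup_left hk)))
    have h6 : K ⊔ h.om ≤ centralizer {c} := sup_le
      (fun v hv => mem_centralizer_singleton_iff.2 (hc' v hv)) fun a ha =>
        mem_centralizer_singleton_iff.2
          (h.centralizes ha.1 ha.2 (h.mem_m3_of_comm (hK ht) hn (hc c hc'))).symm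
    have h7 := mem_centralizer_singleton_iff.1
      (h6 ((mem_normalizer_iff''.1 h5 _).1 (mem_sup_left hv)))
    calc _ = g * (g⁻¹ * v * g * c) * g⁻¹ := by group
      _ = _ := by rw [h7]; group
  by_cases hA : ∀ a ∈ commutator G, a * a = 1
  · haveI : K.Normal := ⟨fun k hk g => d.nrm g
      (key g ⟨comm_mem _ _, hA _ (comm_mem _ _)⟩ ⟨comm_mem _ _, hA _ (comm_mem _ _)⟩) k hk⟩
    have h1 := h.gen_of h.x_notMem (hK ht) hn
    exact hwK (comm_le_of_mem h.pg h1 (comm_mem x t) (comm_notMem_rr h.pg h.nm h1) (N := K)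
      (mul_mem (this.conj_mem t ht x) (inv_mem ht)) hw.1)
  · haveI := h.om_normal
    obtain ⟨g, hg, e⟩ := h.exists_comm_eq (hK ht) hn (r := w) (by
      by_contra h1
      exact hA fun a ha => (comm_le_of_mem h.pg h.gen hw.1 h1 hw ha).2)
    refine hwK (e ▸ cmw g (key g (by rw [← commutatorElement_inv, e]; exact inv_mem hw)
      ⟨comm_mem _ _, ?_⟩) t ht)
    have h1 := hZ (d.sq _ (cmw s hs' t ht))
    rw [← h.comm_mul (comm_mem t s), commutatorElement_eq_one_iff_mul_comm,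
      h.centralizes h1.1 h1.2 (fr_le_m3 hg)]

omit hC hne in
theorem comm_m3 {u v : G} (hu : u ∈ m3 G) (hv : v ∈ m3 G) : ⁅u, v⁆ ∈ rr G := by
  by_cases h1 : v ∈ frattini G
  · exact h.comm_fr h1 u
  by_cases h3 : u ∈ frattini G
  · exact commutatorElement_inv v u ▸ inv_mem (h.comm_fr h3 v)
  convert rr_normal.conj_mem _ (h.comm_fr (h.mul_mem_fr' hu h3 hv h1) u) u using 1
  simp only [commutatorElement_def]; group

theorem not_comm {K₀ : Subgroup G} (d : KD Q K₀ ⊥ f) (hK : K ≤ Q) (hKf : ∀ k ∈ K, f k ∈ K)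
    (hab : ∀ u ∈ K, ∀ v ∈ K, u * v = v * u)
    (nrm : ∀ g ∈ normalizer (Q : Set G), ∀ k ∈ K, g * k * g⁻¹ ∈ K)
    (hF : ∀ y ∈ (frattini Q).map Q.subtype, f y ∈ (frattini Q).map Q.subtype)
    (nfr : ¬ ∀ k ∈ K, k⁻¹ * f k ∈ (frattini Q).map Q.subtype) {w w' : G} (hw : w ∈ h.om)
    (hw' : w' ∈ h.om) (h1 : w ≠ 1) (h1' : w' ≠ 1) (hww : w ≠ w') : False := by
  haveI : Fact (Nat.Prime 2) := ⟨Nat.prime_two⟩
  have h3 := h.om_le hC hne d
  have h4 : K₀ ≤ h.om := four_gen bot_le h3 d.idx hw hw' h1 h1' (mt inv_mul_eq_one.1 hww)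
  have h5 : ∀ g ∈ normalizer (Q : Set G), g ∈ centralizer (K₀ : Set G) → g ∈ Q := fun g hg hc => by
    by_contra hn
    obtain ⟨k, hk, e⟩ := d.exists_comm h.pg hg hn
    exact e (commutatorElement_eq_one_iff_mul_comm.2 (hc k hk))
  have h6 : m3 G ≤ centralizer (K₀ : Set G) := fun g hg k hk =>
    (h.centralizes (h4 hk).1 (h4 hk).2 hg).symm
  have h7 : Q = m3 G := by
    have h7 : Q ≤ m3 G := fun q hq => by
      by_contra hn
      obtain ⟨s, hs, -, hs'⟩ := H5.exists_mem_normalizer_not_mem h.pg hne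
      exact hs (h5 s hs' ((sup_le (zpowers_le.2 (mem_centralizer_iff.2 fun k hk =>
        commutatorElement_eq_one_iff_mul_comm.1 (d.comm_mem h.pg hk hq)))
        (zpowers_le.2 (h6 h.b_mem)) :) ((h.gen_of hn h.b_mem h.b_notMem_fr).ge (mem_top s))))
    by_contra hn
    obtain ⟨g, hg, e, -, hg'⟩ := H5.exists_mem_normalizer_of_lt (h.pg.to_subgroup _)
      (lt_of_le_of_ne h7 hn)
    exact e (h5 g hg' (h6 hg))
  subst h7
  have hN : ∀ g, g ∈ normalizer (m3 G : Set G) := fun g => normalizer_eq_top (m3 G) ▸ mem_top g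
  haveI : K.Normal := ⟨fun k hk g => nrm g (hN g) k hk⟩
  have hY := H5.commutator_le_map_frattini (h.pg.to_subgroup (m3 G))
  obtain ⟨t, ht, hn⟩ := SetLike.not_le_iff_exists.1 fun hF' : K ≤ frattini G => by
    have hR : rr G ≤ (frattini (m3 G)).map (m3 G).subtype := h.rr_le_of h.b_mem h.b_notMem_fr
      (fun a ha => pow_two a ▸ H5.pow_mem_map_frattini (h.pg.to_subgroup _) (comm_le_m3 ha))
      (hY (commutator_mem_commutator h.b_mem (sq_mem_m3 x)))
    refine nfr fun k hk => d.toOB.triv hK hKf (map_subtype_le _) hF (hN x) h.x_notMem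
      (fun k hk => hR ?_) (fun y hy => (inferInstance : (Subgroup.map _ _).Normal).conj_mem _ hy x)
      (fun k hk q hq => ?_) hk
    · simpa [commutatorElement_def, mul_assoc] using inv_mem (h.comm_fr (inv_mem (hF' hk)) x⁻¹)
    · simpa [commutatorElement_def, mul_assoc] using
        hY (commutator_mem_commutator (inv_mem (hK hk)) hq)
  have h8 := h.gen_of h.x_notMem (hK ht) hn
  have h9 := comm_le_of_mem h.pg h8 (comm_mem x t) (comm_notMem_rr h.pg h.nm h8) (N := K)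
    (mul_mem (this.conj_mem t ht x) (inv_mem ht))
  have hA : ∀ a ∈ commutator G, a * a = 1 := fun a ha =>
    h.sq_eq_one (hK ht) hn ha (hab t ht a (h9 ha))
  have he : ⁅b, x * x⁆ = 1 := by
    by_contra he
    have k1 := h.b_mem
    have k2 := sq_mem_m3 x
    exact h.c_notMem (d.le_of (Y := rr G) bot_le (h3 ⟨comm_mem _ _, hA _ (comm_mem _ _)⟩) he
      (h.comm_m3 k1 k2) (d.toOB.map_comm k1 k2 ▸ h.comm_m3 (d.mem _ k1) (d.mem _ k2))
      (h3 ⟨comm_mem _ _, hA _ (comm_mem _ _)⟩))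
  have hR := h.rr_le_of h.b_mem h.b_notMem_fr (M := ⊥) hA he
  exact hww (mul_left_cancel (hw.2.trans (hR (mul_mem_rr h.gen hw.1 hw'.1
    (fun h => h1 (hR h)) fun h => h1' (hR h))).symm))

omit hC hne

theorem index_le_eight {X : Type*} [Group X] [Finite X] (j : X →* G) (hj : Function.Injective j) :
    (frattini X).index ≤ 8 := by
  haveI : Fact (Nat.Prime 2) := ⟨Nat.prime_two⟩
  have h1 : SR 3 G := fun H K hKH hsq => by
    haveI := normal_of_comm_le (le_sup_left : _ ≤ commutator G ⊔ zpowers x)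
    have h3 := sr_subgroup_iff.1 h.sr (H ⊓ (commutator G ⊔ zpowers x))
      (K ⊓ (commutator G ⊔ zpowers x)) inf_le_right (inf_le_inf_right _ hKH)
      fun u hu => ⟨hsq u hu.1, mul_mem hu.2 hu.2⟩
    have h4 := Nat.le_of_dvd two_pos
      (h.index_sup ▸ relIndex_dvd_index_of_normal (commutator G ⊔ zpowers x) H)
    rw [← inf_relIndex_left] at h4
    exact (relIndex_le_of_le_left inf_le_left FiniteIndex.index_ne_zero).trans
      ((relIndex_mul_relIndex _ _ _ (inf_le_inf_right _ hKH) inf_le_left).symm.trans_le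
        (Nat.mul_le_mul h3 h4))
  simpa using h1.of_injective j hj ⊤ (frattini X) le_top
    fun u _ => pow_two u ▸ H5.pow_mem_frattini (h.pg.of_injective j hj) u

theorem q8_or_comm {X : Type*} [Group X] [Finite X] (j : X →* G) (hj : Function.Injective j)
    {ω : MulAut X} (hK : cmw ω = ⊤) (ho : Odd (orderOf ω)) (h4 : (frattini X).index ≤ 4) :
    SR 2 X ∧ (Nonempty (X ≃* QuaternionGroup 2) ∨ IsMulCommutative X) := by
  haveI := normal_of_comm_le (le_sup_left : _ ≤ commutator G ⊔ zpowers x)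
  exact H93.q8_or_comm hK (h.pg.of_injective j hj) ho h4 (M := (commutator G ⊔ zpowers x).comap j)
    (index_comap _ j ▸ h.index_sup ▸ relIndex_dvd_index_of_normal _ _)
    (h.sr.of_injective (j.subgroupComap _) fun a b e => Subtype.ext (hj (congrArg Subtype.val e)))

theorem exists_two (hA : ¬ IsCyclic (commutator G)) :
    ∃ w ∈ h.om, ∃ w' ∈ h.om, w ≠ 1 ∧ w' ≠ 1 ∧ w ≠ w' := by
  by_contra! h1
  rcases H41.UniqInv.cyclic_or_quaternion (G := commutator G) (fun u v hu hv h3 h4 => Subtype.ext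
    (h1 u ⟨u.2, congrArg Subtype.val hu⟩ v ⟨v.2, congrArg Subtype.val hv⟩ (by simpa using h3)
      (by simpa using h4))) (h.pg.to_subgroup _) with h3 | ⟨n, ⟨e⟩⟩
  · exact hA h3
  have h4 := congrArg e (h.isComm.1.1 (e.symm (.a 1)) (e.symm (.xa 0)))
  simp only [map_mul, MulEquiv.apply_symm_apply, QuaternionGroup.a_mul_xa, QuaternionGroup.xa_mul_a,
    QuaternionGroup.xa.injEq] at h4
  have h5 : ((2 : ℕ) : ZMod (2 * 2 ^ (n + 1))) = 0 := by push_cast; linear_combination -h4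
  have := Nat.le_of_dvd two_pos ((ZMod.natCast_eq_zero_iff _ _).1 h5)
  have : 0 < 2 ^ n := by positivity
  omega

theorem isCyclic_of_aut (hC : centralizer (Q : Set G) ≤ Q) (hne : Q ≠ ⊤) {ω : MulAut Q}
    (h3 : ω ^ 3 = 1) (h1 : ω ≠ 1) (hinv : ∀ g ∈ normalizer (Q : Set G), g ∉ Q → ∃ β : MulAut Q,
      (∀ y, (β y : G) = g * y * g⁻¹) ∧ ∃ q : Q, β * ω * β⁻¹ * ω = MulAut.conj q) :
    IsCyclic (commutator G) := by
  classical
  haveI : Fact (Nat.Prime 2) := ⟨Nat.prime_two⟩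
  haveI : Fact (Nat.Prime 3) := ⟨Nat.prime_three⟩
  by_contra hA
  obtain ⟨w, hw, w', hw', e1, e2, e3⟩ := h.exists_two hA
  have hQ := h.pg.to_subgroup Q
  have ho : Odd (orderOf ω) := by rw [orderOf_eq_prime h3 h1]; decide
  obtain ⟨f, hf⟩ : ∃ f : G → G, ∀ y : Q, f y = ω y :=
    ⟨fun u => if hu : u ∈ Q then ω ⟨u, hu⟩ else u, fun y => dif_pos y.2⟩
  have o : OB Q f := ⟨fun u hu v hv => by
      rw [hf ⟨u, hu⟩, hf ⟨v, hv⟩, ← coe_mul, ← map_mul]; exact hf (⟨u, hu⟩ * ⟨v, hv⟩),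
    fun u hu => hf ⟨u, hu⟩ ▸ (ω _).2, fun u hu => by
      rw [hf ⟨u, hu⟩, hf, hf, ← MulAut.mul_apply, ← MulAut.mul_apply, ← pow_three', h3]; rfl,
    fun g hg hn => by
      obtain ⟨β, hβ, q, e⟩ := hinv g hg hn
      refine ⟨q, q.2, fun u hu => ?_⟩
      have h4 : g⁻¹ * f u * g = (β⁻¹ (ω ⟨u, hu⟩) : Q) := by
        rw [hf ⟨u, hu⟩, ← β.apply_symm_apply (ω _), hβ, β.apply_symm_apply, MulAut.inv_apply]; group
      rw [h4, hf, ← hβ]
      exact congrArg Subtype.val (DFunLike.congr_fun e ⟨u, hu⟩)⟩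
  obtain ⟨β, hβ, h4, hK⟩ := exists_res hQ ho
  let j := Q.subtype.comp (cmw ω).subtype
  have hj : Function.Injective j := Q.subtype_injective.comp (cmw ω).subtype_injective
  have hfj : ∀ k, f (j k) = j (β k) := fun k => (hf k).trans (congrArg Subtype.val (hβ k).symm)
  obtain ⟨hs, h5⟩ := h.q8_or_comm j hj hK (ho.of_dvd_nat h4) (index_le_four_of_three hK
    (hQ.to_subgroup _) (orderOf_dvd_iff_pow_eq_one.1 (h4.trans (orderOf_dvd_of_pow_eq_one h3)))
    (h.index_le_eight j hj))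
  replace hs := sr_subgroup_iff.1 (hs.of_surjective j.rangeRestrict j.rangeRestrict_surjective)
  have hle : j.range ≤ Q := by rintro _ ⟨k, rfl⟩; exact k.1.2
  have hKf : ∀ k ∈ j.range, f k ∈ j.range := by rintro _ ⟨k, rfl⟩; exact ⟨_, (hfj k).symm⟩
  have nrm : ∀ g ∈ normalizer (Q : Set G), ∀ k ∈ j.range, g * k * g⁻¹ ∈ j.range := by
    rintro g hg _ ⟨k, rfl⟩
    by_cases hn : g ∈ Q
    · exact ⟨⟨_, cm_normal.conj_mem _ k.2 ⟨g, hn⟩⟩, rfl⟩
    obtain ⟨γ, hγ, q, e⟩ := hinv g hg hn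
    obtain ⟨n, hn⟩ := hQ q
    exact ⟨⟨_, map_mem_cm_of h3 hn (DFunLike.congr_fun e) k.2⟩, hγ _⟩
  have hdec : ∀ u ∈ Q, ∃ k ∈ j.range, ∃ c ∈ Q, f c = c ∧ u = c * k := fun u hu => by
    obtain ⟨k, hk, c, hc, e⟩ := exists_dec hQ ho ⟨u, hu⟩
    exact ⟨_, ⟨⟨k, hk⟩, rfl⟩, c, c.2, (hf c).trans (congrArg _ hc), congrArg Subtype.val e⟩
  have nfr : ¬ ∀ k ∈ j.range, k⁻¹ * f k ∈ (frattini Q).map Q.subtype := fun h6 =>
    h1 (H5.aut_eq_one_of_frattini hQ ω (Nat.coprime_two_right.2 ho) fun y =>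
      cm_le_of hQ ho (fun k hk => by
        obtain ⟨v, hv, e⟩ := h6 _ ⟨⟨k, hk⟩, rfl⟩
        rwa [show v = k⁻¹ * ω k from Subtype.ext (e.trans (congrArg _ (hf k)))] at hv) (mem_cmw ω y))
  rcases h5 with ⟨⟨e⟩⟩ | h5
  · obtain ⟨z, z1, z2, z3, z4, z5⟩ := q8_facts e
    have y2 : j z * j z = 1 := by rw [← map_mul, z2, map_one]
    have y5 : ∀ k ∈ j.range, k * k = 1 → k ≠ 1 → k = j z := by
      rintro _ ⟨k, rfl⟩ h6 h7
      exact congrArg j ((z5 k (hj (by rw [map_mul, h6, map_one]))).resolve_left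
        fun h => h7 (by rw [h, map_one]))
    have y4 : ∀ k, k * k ∈ zpowers z := fun k => by rcases z4 k with h | h <;> simp [h]
    have y6 : β z = z := (z5 _ (by rw [← map_mul, z2, map_one])).resolve_left (by simpa using z3)
    have y7 : ∀ k ∈ zpowers (j z), f k = k := fun k hk => by
      rcases mem_zpowers_invol y2 hk with rfl | rfl
      exacts [o.map_one, by rw [hfj, y6]]
    have y8 : ∀ k ∈ j.range, k * k ∈ zpowers (j z) := by
      rintro _ ⟨k, rfl⟩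
      exact map_mul j k k ▸ j.map_zpowers z ▸ ⟨_, y4 k, rfl⟩
    have := h.om_le hC hne (K := j.range) (Z := zpowers (j z)) ⟨o, hle, zpowers_le.2 ⟨z, rfl⟩,
      zpowers_le.2 (commutator_mono le_top le_top ((map_commutator ⊤ ⊤ j).le ⟨z, z1, rfl⟩)),
      fun k hk => by rcases mem_zpowers_invol y2 hk with rfl | rfl <;> simp [y2], y8,
      hs _ _ le_rfl (zpowers_le.2 ⟨z, rfl⟩) y8,
      fun h6 => nfr fun k hk => by simp [y7 k (h6 hk)], hKf, y7, ?_, nrm, fun g hg k hk => ?_,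
      fun u hu => let ⟨k, hk, c, hc, h6, h7⟩ := hdec u hu; ⟨k, hk, 1, one_mem _, c, hc, h6, by
        simpa using h7⟩⟩
    · exact e3 ((y5 w (this hw) hw.2 e1).trans (y5 w' (this hw') hw'.2 e2).symm)
    · rintro _ ⟨k, rfl⟩ hk
      refine mem_of_fix hK (N := (zpowers (j z)).comap j) ((H5.commutator_le_frattini
        (hQ.to_subgroup _)).trans ?_) (fun y hy => by rwa [mem_comap, ← hfj, y7 _ hy])
        (by rwa [mem_comap, map_mul, map_inv, ← hfj])
      rw [H5.frattini_eq_closure_sq (hQ.to_subgroup _), closure_le]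
      rintro _ ⟨u, rfl⟩
      simpa [pow_two] using y8 _ ⟨u, rfl⟩
    · rcases mem_zpowers_invol y2 hk with rfl | rfl
      · simp
      · exact y5 _ (nrm g hg _ ⟨z, rfl⟩) (by rw [conj_mul, y2]; simp)
          (by simpa [mul_inv_eq_one, map_eq_one_iff j hj] using z3)
  have hab : ∀ u ∈ j.range, ∀ v ∈ j.range, u * v = v * u := by
    rintro _ ⟨u, rfl⟩ _ ⟨v, rfl⟩
    rw [← map_mul, h5.1.1, map_mul]
  let K₀ : Subgroup G :=
    { carrier := {k | k ∈ j.range ∧ k * k = 1}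
      one_mem' := ⟨one_mem _, one_mul 1⟩
      mul_mem' := fun {a c} ha hc => ⟨mul_mem ha.1 hc.1, by
        rw [Commute.mul_mul_mul_comm (hab _ hc.1 _ ha.1), ha.2, hc.2, one_mul]⟩
      inv_mem' := fun {a} ha => ⟨inv_mem ha.1, by rw [← mul_inv_rev, ha.2, inv_one]⟩ }
  refine h.not_comm hC hne (K₀ := K₀) ⟨o, fun k hk => hle hk.1, bot_le, bot_le, fun z hz => ?_,
    fun k hk => hk.2, hs _ _ (fun k hk => hk.1) bot_le fun k hk => hk.2, fun h6 => ?_,
    fun k hk => ⟨hKf k hk.1, by rw [← o.mul _ (hle hk.1) _ (hle hk.1), hk.2, o.map_one]⟩,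
    fun z hz => mem_bot.1 hz ▸ o.map_one, ?_,
    fun g hg k hk => ⟨nrm g hg k hk.1, by rw [conj_mul, hk.2]; simp⟩, fun g _ z hz => ?_,
    fun u hu => let ⟨k, hk, c, hc, h6, h7⟩ := hdec u hu
      ⟨1, one_mem _, k, fun v hv => hab v hv.1 k hk, c, hc, h6, by simpa using h7⟩⟩
    hle hKf hab nrm ?_ nfr hw hw' e1 e2 e3
  · simp [mem_bot.1 hz]
  · obtain ⟨z, hz, -, hz2⟩ := H5.exists_mem_centralizer_orderOf_eq (h.pg.to_subgroup j.range) le_rfl
      le_normalizer fun h7 => nfr fun k hk => by simp [mem_bot.1 (h7 ▸ hk), o.map_one]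
    simp [mem_bot.1 (h6 ⟨hz, by rw [← pow_two, ← hz2, pow_orderOf_eq_one]⟩)] at hz2
  · rintro _ ⟨⟨k, rfl⟩, -⟩ hk
    rw [mem_bot.1 (mem_of_fix hK (N := ⊥) (commutator_eq_bot _).le (fun y hy => by simpa using hy)
      (y := k) (hj (by rwa [map_mul, map_inv, ← hfj, map_one])))]
    simp
  · simp [mem_bot.1 hz]
  · rintro _ ⟨y, hy, rfl⟩
    exact ⟨_, H5.aut_mem_of_characteristic inferInstance ω hy, (hf y).symm⟩

theorem invol_eq (hA : IsCyclic (commutator G)) {u v : G} (hu : u ∈ h.om) (hv : v ∈ h.om)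
    (h1 : u ≠ 1) (h2 : v ≠ 1) : u = v := by
  by_contra hn
  exact H5.not_isCyclic_of_two_invol hv.1 hu.1 h2 h1 hn hv.2 hu.2 hA

theorem zpowers_c (hA : IsCyclic (commutator G)) : zpowers ⁅x, b⁆ = commutator G := by
  obtain ⟨c, hc⟩ := (Subgroup.isCyclic_iff_exists_zpowers_eq_top _).1 hA
  obtain ⟨p, hp⟩ := mem_zpowers_iff.1 (hc.ge (comm_mem x b))
  refine le_antisymm (zpowers_le.2 (comm_mem x b)) (hc.ge.trans (zpowers_le.2 ?_))
  rcases Int.even_or_odd p with ⟨p, rfl⟩ | hp'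
  · exact absurd (hp ▸ zpow_add c p p ▸ sq_mem_rr (hc.le (zpow_mem_zpowers c p))) h.c_notMem
  · exact hp ▸ mem_zpowers_zpow_of_odd h.pg c hp'

theorem pRankLE_of (hA : IsCyclic (commutator G)) {a : G} {m : ℕ} (ha : a ∈ commutator G)
    (hxa : x * a = a * x) (h1 : a ^ 2 ^ (m + 1) ≠ 1) (h2 : a ^ 2 ^ (m + 2) = 1)
    (h3 : x ^ 2 ^ (m + 1) ∉ commutator G) (h4 : x ^ 2 ^ (m + 2) = 1) : PRankLE 2 2 G := by
  haveI : Fact (Nat.Prime 2) := ⟨Nat.prime_two⟩
  haveI := normal_of_comm_le (le_sup_left : _ ≤ commutator G ⊔ zpowers x)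
  intro E hE hE2
  have hz : a ^ 2 ^ (m + 1) ∈ h.om := ⟨pow_mem ha _, by rw [← pow_two, ← pow_mul]; exact h2⟩
  have hE3 : ∀ e ∈ E, e * e = 1 := fun e he => pow_two e ▸ hE2 e he
  by_contra hc
  obtain ⟨i, hi, hi'⟩ := SetLike.not_le_iff_exists.1 fun h5 : E ≤ commutator G ⊔ zpowers x =>
    hc (by simpa using sr_subgroup_iff.1 h.sr E ⊥ h5 bot_le hE3)
  obtain ⟨y, hy, hy'⟩ := SetLike.not_le_iff_exists.1
    fun h5 : E ⊓ (commutator G ⊔ zpowers x) ≤ commutator G => hc (by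
      have h6 : E ⊓ (commutator G ⊔ zpowers x) ≤ zpowers (a ^ 2 ^ (m + 1)) := fun e he => by
        by_cases h7 : e = 1
        · simp [h7]
        · simp [h.invol_eq hA ⟨h5 he, hE3 e he.1⟩ hz h7 h1]
      have h7 := card_le_of_le h6
      rw [Nat.card_zpowers, orderOf_eq_prime (p := 2) ((pow_two _).trans hz.2) h1] at h7
      have h8 := Nat.le_of_dvd two_pos
        (h.index_sup ▸ relIndex_dvd_index_of_normal (commutator G ⊔ zpowers x) E)
      rw [← relIndex_bot_left, ← relIndex_mul_relIndex ⊥ _ E bot_le inf_le_left, relIndex_bot_left,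
        inf_relIndex_left]
      exact Nat.mul_le_mul h7 h8)
  have hc := (h.base h.x_notMem (hE3 i hi ▸ one_mem _) fun h5 => hi' (h.fr_le_sup h5)).zpowers_c hA
  have hn : (zpowers ⁅x, i⁆).Normal := hc ▸ inferInstance
  have key : ∀ r : ℕ, ∀ e ∈ commutator G, ∃ l : ℤ, Odd l ∧ x ^ r * e * (x ^ r)⁻¹ * e = (e * e) ^ l :=
    fun r e he => by
    obtain ⟨k, hk⟩ := cyc_conj hn (x ^ r)
    have h5 := hk _ (hc.ge (pow_mem ha (2 ^ m)))
    rw [(Commute.pow_pow hxa r _).eq, mul_inv_cancel_right, zpow_add, zpow_one, right_eq_mul,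
      zpow_mul, zpow_two, ← pow_two, ← pow_mul, ← pow_succ] at h5
    refine ⟨k + 1, ((zpow_eq_one_or_self hz.2 k).resolve_right
      fun h6 => h1 (h6.2.symm.trans h5)).1.add_one, ?_⟩
    rw [hk e (hc.ge he), ← zpow_two]; group
  have ind : ∀ r : ℕ, ⁅x, i⁆ ^ 2 ^ r ∈ zpowers ⁅x ^ 2 ^ r, i⁆ := fun r => by
    induction r with
    | zero => simp
    | succ r ih =>
      obtain ⟨l, hl, e⟩ := key (2 ^ r) _ (comm_mem (x ^ 2 ^ r) i)
      obtain ⟨p, hp⟩ := mem_zpowers_iff.1 ih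
      rw [pow_succ, pow_mul, pow_mul, ← hp, pow_two, pow_two, ← (Commute.refl _).mul_zpow,
        show ⁅x ^ 2 ^ r * x ^ 2 ^ r, i⁆ = _ from Eq.trans (by
          simp only [commutatorElement_def]; group) e]
      exact zpow_mem (mem_zpowers_zpow_of_odd h.pg _ hl) p
  have h5 : y * (x ^ 2 ^ (m + 1))⁻¹ ∈ commutator G := by
    rw [← of_eq_one_iff, map_mul, map_inv, map_pow, mul_inv_eq_one]
    exact (H5.eq_one_or_half (orderOf_eq_prime_pow (fun e => h3 (of_eq_one_iff.1 (by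
      rwa [map_pow]))) (by rw [← map_pow, h4, map_one])) (mem_comm_sup.1 hy.2)
      (by rw [← map_mul, hE3 y hy.1, map_one])).resolve_left fun e => hy' (of_eq_one_iff.1 e)
  obtain ⟨l, hl, e⟩ := key (2 ^ (m + 1)) _ h5
  have h6 : x ^ 2 ^ (m + 1) * x ^ 2 ^ (m + 1) = 1 := by rw [← pow_two, ← pow_mul]; exact h4
  rw [inv_eq_of_mul_eq_one_right h6] at e h5
  have h7 := cyc_invol hn (hc.ge h5) (eq_one_of_zpow_odd h.pg hl (e.symm.trans (by
    rw [mul_assoc _ (y * _), mul_assoc y, h6, mul_one, mul_assoc, ← mul_assoc y, hE3 y hy.1, one_mul,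
      h6]))) i
  have h8 : ⁅x ^ 2 ^ (m + 1), i⁆ = 1 := by
    have h9 : i * y = y * i := congrArg Subtype.val (hE.1.1 ⟨i, hi⟩ ⟨y, hy.1⟩)
    rw [← mul_assoc, h9, mul_assoc, mul_assoc, mul_right_inj, ← mul_assoc,
      mul_inv_eq_iff_eq_mul] at h7
    exact commutatorElement_eq_one_iff_mul_comm.2 h7.symm
  obtain ⟨p, rfl⟩ := H48.exists_pow_eq_of_mem_zpowers (hc.ge ha)
  have h9 := ind (m + 1)
  rw [h8, zpowers_one_eq_bot, mem_bot] at h9
  exact h1 (by rw [← pow_mul, mul_comm, pow_mul, h9, one_pow])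

theorem pRankLE (hA : IsCyclic (commutator G)) {X : Type*} [Group X] [Finite X] (j : X →* G)
    (hj : Function.Injective j) {ω : MulAut X} (hK : cmw ω = ⊤) (ho : Odd (orderOf ω)) {t : X}
    (ht : j t ∉ m3 G) : PRankLE 2 2 G := by
  haveI : Fact (Nat.Prime 2) := ⟨Nat.prime_two⟩
  replace h := h.base ht h.bb h.b_notMem_fr
  have hX := h.pg.of_injective j hj
  obtain ⟨-, ⟨⟨e⟩⟩ | hab⟩ := h.q8_or_comm j hj hK ho (index_le_four_of_m3 hK hX
    (h.index_le_eight j hj) (M := (commutator G ⊔ zpowers (j t)).comap j)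
    (fun y => by rw [mem_comap, map_mul]; exact h.fr_le_sup (h.sq_mem_fr _))
    (h.sr.of_injective (j.subgroupComap _) fun a b e => Subtype.ext (hj (congrArg Subtype.val e)))
    fun e => ht (map_mem_m3 j (e.ge (mem_top t))))
  · obtain ⟨z, z1, -, -, z4, -⟩ := q8_facts e
    refine absurd ?_ h.xx
    rcases z4 t with e | e <;> rw [← map_mul, e]
    exacts [map_one j ▸ one_mem _,
      commutator_mono le_top le_top ((map_commutator ⊤ ⊤ j).le ⟨z, z1, rfl⟩)]
  have hc : ∀ u v : X, Commute u v := hab.1.1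
  have hM : ∀ k, j k ∈ commutator G ⊔ zpowers (j t) := fun k => by
    have h1 : ∀ k, j k ∈ m3 G → j k ∈ frattini G := fun k hk => by
      by_contra hn
      exact ht (h.mem_m3_of_comm hk hn ((hc t k).map j).eq)
    by_cases hk : j k ∈ m3 G
    · exact h.fr_le_sup (h1 k hk)
    · simpa using mul_mem (mem_sup_right (mem_zpowers (j t)))
        (h.fr_le_sup (h1 (t⁻¹ * k) (by simpa using h.mul_mem_m3 hk)))
  obtain ⟨n, hn⟩ := h.pg (j t)
  obtain ⟨n, h1, h3⟩ := H5.exists_pow_not_mem_pow_mem (fun e => ht (comm_le_m3 e))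
    (hn ▸ one_mem (commutator G))
  rcases n with _ | m
  · exact absurd (by simpa [pow_two] using h3) h.xx
  have fix : ∀ k, ω k = k → k = 1 := fun k hk => mem_of_fix hK (N := ⊥) (commutator_eq_bot _).le
    (fun y hy => by simpa using hy) (by simp [hk])
  have h4 : ∀ k, j (k ^ 2 ^ (m + 2)) ∈ commutator G := fun k => by
    obtain ⟨i, hi⟩ := mem_zpowers_iff.1 (mem_comm_sup.1 (hM k))
    rw [← of_eq_one_iff, map_pow, map_pow, ← hi, ← zpow_natCast, ← zpow_mul, mul_comm, zpow_mul,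
      zpow_natCast, ← map_pow, pow_succ, pow_mul, of_eq_one_iff.2 h3, one_zpow]
  have h5 : ∀ k : X, k ^ 2 ^ (m + 2) = 1 := fun k => by
    by_contra hk
    obtain ⟨r, hr⟩ := hX (k ^ 2 ^ (m + 2))
    obtain ⟨r, h6, h7⟩ := H5.exists_pow_not_mem_pow_mem (K := ⊥) hk hr
    rw [← pow_mul, mul_comm, pow_mul, mem_bot] at h6
    rw [← pow_mul k, mul_comm, pow_mul, mem_bot, pow_two] at h7
    exact h6 (fix _ (hj (h.invol_eq hA ⟨map_pow ω _ _ ▸ h4 _, by
      rw [← map_mul, ← map_mul, h7, map_one, map_one]⟩ ⟨h4 _, by rw [← map_mul, h7, map_one]⟩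
      (by simpa only [ne_eq, map_eq_one_iff j hj, map_eq_one_iff ω ω.injective] using h6)
      (by simpa only [ne_eq, map_eq_one_iff j hj] using h6))))
  obtain ⟨a, ha, h6⟩ : ∃ a, j a ∈ commutator G ∧ a ^ 2 ^ (m + 1) ≠ 1 := by
    by_contra! h6
    obtain ⟨i, hi⟩ := mem_zpowers_iff.1 (mem_comm_sup.1 (hM (ω t)))
    have h7 := h6 ((t ^ i)⁻¹ * ω t) (of_eq_one_iff.1 (by simp [← hi]))
    rw [(hc _ _).mul_pow, inv_pow, inv_mul_eq_one, ← map_pow, ← zpow_natCast, ← zpow_mul, mul_comm,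
      zpow_mul, zpow_natCast] at h7
    refine h1 ?_
    rcases zpow_eq_one_or_self (z := t ^ 2 ^ (m + 1)) (by rw [← pow_two, ← pow_mul]; exact h5 t) i
      with ⟨-, e⟩ | ⟨-, e⟩
    · rw [← map_pow, (map_eq_one_iff ω ω.injective).1 (h7.symm.trans e)]; simp
    · rw [← map_pow, fix _ (h7.symm.trans e)]; simp
  exact h.pRankLE_of hA ha ((hc t a).map j).eq (by rwa [← map_pow, ne_eq, map_eq_one_iff j hj])
    (by rw [← map_pow, h5, map_one]) h1 (by rw [← map_pow, h5, map_one])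

end BC

theorem bicycK_eq_defs : True := by
  have := @cmw.eq_1.{0}
  have := @cmw.eq_def.{0}
  have := @trv.eq_1.{0}
  have := @trv.eq_def.{0}
  have := @BC.om.eq_1.{0}
  have := @BC.om.eq_def.{0}
  trivial

end H93
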