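import Mathlib
import Cfsg.Agent.Base
import Cfsg.Agent.Lib.MaxCl.Three
import Cfsg.Agent.Lib.BG4.Metacyclic

/-!
# `p`-groups of rank two for odd `p` (Blackburn)
-/

set_option autoImplicit false

namespace H93

open Subgroup Cfsg H83.Krek H81
open scoped commutatorElement

universe u

variable {G : Type u} [Group G] [Finite G] {p n : ℕ} [hp : Fact p.Prime]

omit [Finite G] hp in
theorem pow_mem_powerClosure_one {H : Subgroup G} {x : G} (hx : x ∈ H) : x ^ p ∈ powerClosure p 1 H :=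
  subset_closure ⟨x, hx, by rw [pow_one]⟩

theorem pc_comm (h2 : p ≠ 2) (hG : IsPGroup p G) (h : ∀ x : G, x ^ p = 1 → x ∈ center G) (n : ℕ) :
    ∀ K : Subgroup G, Nat.card K = n → ∀ x ∈ K, ∀ g ∈ K, (x ^ p) ^ p = 1 → ⁅x, g⁆ ^ p = 1 := by
  induction n using Nat.strong_induction_on with
  | _ n ih =>
  intro K hK x hx g hg h1
  by_cases hc : Commute x g
  · rw [hc.commutator_eq, one_pow]
  obtain ⟨M, h3, h4, h5⟩ := exists_lt_commutator_le (hG.to_subgroup K) hx hg hc hx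
  have h6 := ih _ (hK ▸ H1.card_lt_of_lt h3) M rfl x h4 _
    (inv_mem (conj_mem_of_commutator_le h3.le h5 hg h4)) h1
  have h7 : ⁅(g * x * g⁻¹)⁻¹, x⁆ ^ p = 1 := by rw [← commutatorElement_inv, inv_pow, h6, inv_one]
  rw [show ⁅x, g⁆ = x * (g * x * g⁻¹)⁻¹ by group, H5.mul_pow_eq_of_class_two
    (mem_center_iff.1 (h _ h7) _) (mem_center_iff.1 (h _ h7) _) (H5.dvd_choose_two hp.out h2) h7,
    inv_pow, conj_pow, mem_center_iff.1 (h _ h1) g]
  group

/-- A `p`-group whose elements of order `p` are central has few cosets of the `p`-th powers. -/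
theorem pc_index (h2 : p ≠ 2) (n : ℕ) : ∀ (G : Type u) [Group G] [Finite G], Nat.card G = n →
    IsPGroup p G → ∀ W : Subgroup G, W ≤ center G → (∀ x, x ∈ W ↔ x ^ p = 1) →
      (powerClosure p 1 (⊤ : Subgroup G)).index ≤ Nat.card W := by
  induction n using Nat.strong_induction_on with
  | _ n ih =>
  intro G _ _ hn hG W hW h
  by_cases h0 : W = ⊥
  · refine (index_eq_one.2 (eq_top_iff.2 fun x _ => by_contra fun hx => ?_)).trans_le Nat.card_pos
    obtain ⟨k, hk⟩ := hG x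
    obtain ⟨j, h3, h4⟩ := H5.exists_pow_not_mem_pow_mem (K := ⊥) (x := x)
      (fun e => hx (by rw [mem_bot.1 e]; exact one_mem _)) hk
    exact h3 (h0 ▸ (h _).2 h4)
  haveI := H48.normal_of_le_center' hW
  have h3 : ∀ x g : G, x ^ p ∈ W → ⁅x, g⁆ ∈ W := fun x g hx =>
    (h _).2 (pc_comm h2 hG (fun x hx => hW ((h x).2 hx)) _ ⊤ rfl x trivial g trivial ((h _).1 hx))
  let V := omegaOf (center (G ⧸ W)) p fun a ha b _ h1 h2 => by
    rw [Commute.mul_pow (mem_center_iff.1 ha b).symm, h1, h2, one_mul]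
  have h4 := ih _ (hn ▸ H1.card_quotient_lt h0) _ rfl (hG.to_quotient W) V (fun x hx => hx.1)
    fun x => ⟨fun hx => hx.2, fun hx => ⟨mem_center_iff.2 fun g => by
      obtain ⟨x, rfl⟩ := QuotientGroup.mk_surjective x
      obtain ⟨g, rfl⟩ := QuotientGroup.mk_surjective g
      exact (commutatorElement_eq_one_iff_mul_comm.1 ((QuotientGroup.eq_one_iff ⁅x, g⁆).2
        (h3 x g ((QuotientGroup.eq_one_iff (x ^ p)).1 hx)))).symm, hx⟩⟩
  have h5 : ∀ v : V, (v : G ⧸ W).out ^ p ∈ W := fun v => (QuotientGroup.eq_one_iff _).1 (by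
    rw [QuotientGroup.mk_pow, QuotientGroup.out_eq']; exact v.2.2)
  have h6 : Nat.card V ≤ Nat.card (powerClosure p 1 ⊤ ⊓ W : Subgroup G) :=
    Nat.card_le_card_of_injective (fun v => ⟨(v : G ⧸ W).out ^ p,
      pow_mem_powerClosure_one (mem_top _), h5 v⟩) fun v w e => Subtype.ext (by
        have h6 := h3 _ (v : G ⧸ W).out⁻¹ (h5 w)
        rw [← QuotientGroup.out_eq' v.1, ← QuotientGroup.out_eq' w.1, QuotientGroup.eq, h,
          H5.mul_pow_eq_of_class_two (mem_center_iff.1 (hW h6) _) (mem_center_iff.1 (hW h6) _)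
            (H5.dvd_choose_two hp.out h2) ((h _).1 h6), inv_pow, inv_mul_eq_one]
        exact congrArg Subtype.val e)
  haveI := powerClosure_normal (p := p) (n := 1) (⊤ : Subgroup G)
  rw [← map_top_of_surjective _ (QuotientGroup.mk'_surjective W), ← map_powerClosure, index_map,
    QuotientGroup.ker_mk', QuotientGroup.range_mk', index_top, mul_one] at h4
  rw [← relIndex_mul_index (le_sup_left : _ ≤ _ ⊔ W), relIndex_sup_left,
    ← H1.card_mul_relIndex_of_le (inf_le_right : powerClosure p 1 ⊤ ⊓ W ≤ W), inf_relIndex_right, mul_comm]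
  exact Nat.mul_le_mul_right _ (h4.trans h6)

theorem ar_of_index_le (h2 : p ≠ 2) (h : (powerClosure p 1 (⊤ : Subgroup G)).index ≤ p ^ 2) : AR p G :=
  h.trans_lt (Nat.pow_lt_pow_right hp.out.one_lt (hp.out.two_le.lt_of_ne' h2))

theorem Reg1.card_omega (hG : IsPGroup p G) (h : Reg1 p G) :
    Nat.card (h.omega hG 1) = (powerClosure p 1 (⊤ : Subgroup G)).index := by
  have h1 := h.card_omega_mul hG ⊤ 1
  rw [relIndex_top_right] at h1
  refine Nat.eq_of_mul_eq_mul_right (Nat.card_pos (α := powerClosure p 1 (⊤ : Subgroup G))) ?_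
  rw [index_mul_card, ← h1, card_mul_index]

/-- Huppert's criterion. -/
theorem isMetacyclic_aux (h2 : p ≠ 2) (n : ℕ) : ∀ (G : Type u) [Group G] [Finite G], Nat.card G = n →
    IsPGroup p G → (powerClosure p 1 (⊤ : Subgroup G)).index ≤ p ^ 2 → IsMetacyclic G := by
  induction n using Nat.strong_induction_on with
  | _ n ih =>
  intro G _ _ hn hG h
  have hr := (ar_of_index_le h2 h).reg1 hG
  have key : ∀ t ∈ center G, t ^ p = 1 → commutator G ≤ zpowers t → IsMetacyclic G := fun t h1 h3 h4 =>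
    H48.isMetacyclic_of_mul_pow h2 hG ((card_le_of_le ((closure_le _).2 fun x hx =>
      (hr.mem_omega hG).2 ((pow_one p).symm ▸ hx.2))).trans ((Reg1.card_omega hG hr).trans_le h))
      (fun x y => hr.mul_pow_of_commutator hG (by
        obtain ⟨i, hi⟩ := h4 (commutator_mem_commutator (mem_top x) (mem_top y))
        rw [← hi, ← zpow_natCast, ← zpow_mul, mul_comm, zpow_mul, zpow_natCast, h3, one_zpow])) t h4
  by_cases hd : commutator G = ⊥
  · exact key 1 (one_mem _) (one_pow p) (hd ▸ bot_le)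
  obtain ⟨t, h1, h3, h4⟩ := H5.exists_mem_center_orderOf_eq hG (commutator G) hd
  have h5 : t ^ p = 1 := h4 ▸ pow_orderOf_eq_one t
  haveI := H48.normal_of_le_center' (zpowers_le.2 h3)
  have hf := QuotientGroup.mk'_surjective (zpowers t)
  obtain ⟨N, _, hN, hQ⟩ := ih _ (hn ▸ H1.card_quotient_lt fun e => hp.out.ne_one (by
    rw [← h4, zpowers_eq_bot.1 e, orderOf_one])) (G ⧸ zpowers t) rfl (hG.to_quotient _) (by
      rw [← map_top_of_surjective _ hf, ← map_powerClosure]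
      exact (Nat.le_of_dvd (Nat.pos_of_ne_zero FiniteIndex.index_ne_zero) (index_map_dvd _ hf)).trans h)
  let f := (QuotientGroup.mk' N).comp (QuotientGroup.mk' (zpowers t))
  obtain ⟨a, ha⟩ := H5.exists_zpowers_eq hN
  obtain ⟨a, rfl⟩ := hf a
  obtain ⟨b, hb⟩ := IsCyclic.exists_generator (α := (G ⧸ zpowers t) ⧸ N)
  obtain ⟨b, rfl⟩ : ∃ c, f c = b := (QuotientGroup.mk'_surjective N).comp hf b
  have h6 : ∀ x ∈ f.ker, ∃ i : ℤ, ∃ s ∈ zpowers t, x = a ^ i * s := fun x hx => by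
    obtain ⟨i, hi⟩ := ha.ge ((QuotientGroup.eq_one_iff _).1 hx)
    exact ⟨i, (a ^ i)⁻¹ * x, QuotientGroup.eq.1 hi, by group⟩
  have h7 : a ∈ f.ker := (QuotientGroup.eq_one_iff _).2 (ha.le (mem_zpowers _))
  have h8 := H48.commutator_le_zpowers_commutator (b := b) h7
    (fun x hx => let ⟨i, s, hs, e⟩ := h6 x hx; ⟨i, s, zpowers_le.2 h3 hs, e⟩) (eq_top_iff.2 fun g _ => by
      obtain ⟨j, hj⟩ := hb (f g)
      simpa using mul_mem (mem_sup_left (show g * (b ^ j)⁻¹ ∈ f.ker by simp [← hj]))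
        (mem_sup_right (zpow_mem_zpowers b j)))
  obtain ⟨k, hk⟩ := H48.exists_pow_eq_of_mem_zpowers (h8 h1)
  by_cases h9 : p ∣ k
  swap
  · exact key t h3 h5 (h8.trans (zpowers_le.2 (hk ▸ H48.mem_zpowers_pow_of_not_dvd
      (IsPGroup.iff_orderOf.1 hG _) h9)))
  obtain ⟨j, rfl⟩ := h9
  obtain ⟨i, s, ⟨l, rfl⟩, e⟩ := h6 ⁅a, b⁆ (commutator_le_left _ _ (commutator_mem_commutator h7 (mem_top b)))
  refine H48.isMetacyclic_of_hom f hQ (isCyclic_of_le (H' := zpowers a) fun x hx => ?_)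
  obtain ⟨l, s, hs, rfl⟩ := h6 x hx
  refine mul_mem (zpow_mem_zpowers a l) (zpowers_le.2 ?_ hs)
  rw [← hk, pow_mul, e, Commute.mul_pow (mem_center_iff.1 (zpow_mem h3 _) _), ← zpow_natCast (t ^ _),
    ← zpow_mul, mul_comm _ (p : ℤ), zpow_mul, zpow_natCast, h5, one_zpow, mul_one]
  exact pow_mem (pow_mem (zpow_mem_zpowers a i) p) j

theorem isMetacyclic_of_index_le (h2 : p ≠ 2) (hG : IsPGroup p G)
    (h : (powerClosure p 1 (⊤ : Subgroup G)).index ≤ p ^ 2) : IsMetacyclic G :=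
  isMetacyclic_aux h2 _ G rfl hG h

theorem mem_of_rank (hrk : ∀ A : Subgroup G, IsElementaryAbelian p A → Nat.card A ≤ p ^ 2)
    {W : Subgroup G} (hW : IsElementaryAbelian p W) (hc : Nat.card W = p ^ 2) {x : G}
    (hx : x ∈ centralizer (W : Set G)) (h1 : x ^ p = 1) : x ∈ W := by
  by_contra h
  have h2 := hrk (W ⊔ zpowers x) ⟨H5.isMulCommutative_sup_zpowers hW.1 hx, fun g hg => by
    obtain ⟨k, hk, i, rfl⟩ := (H5.mem_sup_zpowers_iff (centralizer_le_normalizer _ hx)).1 hg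
    rw [Commute.mul_pow (Commute.zpow_right (hx k hk) i), hW.2 k hk, ← zpow_natCast, ← zpow_mul,
      mul_comm i, zpow_mul, zpow_natCast, h1, one_zpow, mul_one]⟩
  rw [H5.card_sup_zpowers hp.out (centralizer_le_normalizer _ hx) h (h1 ▸ one_mem _), hc] at h2
  exact absurd h2 (not_le.2 (lt_mul_of_one_lt_right (pow_pos hp.out.pos 2) hp.out.one_lt))

theorem index_le_of_rank (h2 : p ≠ 2) (hG : IsPGroup p G)
    (hrk : ∀ A : Subgroup G, IsElementaryAbelian p A → Nat.card A ≤ p ^ 2)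
    {W : Subgroup G} (hW : IsElementaryAbelian p W) (hc : Nat.card W = p ^ 2) :
    (powerClosure p 1 (⊤ : Subgroup (centralizer (W : Set G)))).index ≤ p ^ 2 :=
  haveI := hW.1
  (pc_index h2 _ _ rfl (hG.to_subgroup _) (W.subgroupOf _)
    (fun x hx => mem_center_iff.2 fun g => Subtype.ext (g.2 _ hx).symm) fun x =>
      ⟨fun hx => Subtype.ext (hW.2 _ hx), fun hx => mem_of_rank hrk hW hc x.2 (congrArg Subtype.val hx)⟩).trans_eq
    ((Nat.card_congr (subgroupOfEquivOfLe W.le_centralizer).toEquiv).trans hc)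

theorem card_le_of_lt {A B : Subgroup G} (h : A < B) (hG : IsPGroup p G) {k : ℕ}
    (hB : Nat.card B ≤ p ^ (k + 1)) : Nat.card A ≤ p ^ k :=
  Nat.le_of_mul_le_mul_right ((card_mul_le_of_lt (hG.to_subgroup _) h).trans hB) hp.out.pos

theorem eq_zpowers_of_card {N : Subgroup G} (h : Nat.card N = p) {x : G} (hx : x ∈ N) (h1 : x ≠ 1) :
    zpowers x = N := eq_of_le_of_card_ge (zpowers_le.2 hx) (by
  rw [Nat.card_zpowers, h, orderOf_eq_prime (h ▸ congrArg Subtype.val (pow_card_eq_one' (x := (⟨x, hx⟩ : N)))) h1])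

theorem exists_gens_of_normal (h2 : p ≠ 2) (hG : IsPGroup p G)
    (hrk : ∀ A : Subgroup G, IsElementaryAbelian p A → Nat.card A ≤ p ^ 2) {E : Subgroup G} [E.Normal]
    (hc : Nat.card E = p ^ 3) (hE : ∀ x ∈ E, x ^ p = 1) : ∃ (x y z : G) (m s : ℕ),
      Nat.card G = p ^ (m + 3) ∧ closure {x, y, z} = ⊤ ∧ x ^ p = 1 ∧ y ^ p = 1 ∧ z ^ p ^ (m + 1) = 1 ∧
      y * z = z * y ∧ z ^ p ^ m ∈ center G ∧ ¬ p ∣ s ∧ x⁻¹ * y * x = y * (z ^ p ^ m) ^ s ∧
      (x⁻¹ * z * x = z ∨ 1 ≤ m ∧ x⁻¹ * z * x = y * z) := by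
  have h1 := hp.out.one_lt
  have hlt : ∀ {A B : Subgroup G} {i j : ℕ}, A ≤ B → Nat.card A = p ^ i → Nat.card B = p ^ j → i < j → A < B :=
    fun h e1 e2 h3 => h.lt_of_ne fun e => h3.ne (Nat.pow_right_injective h1 (by simp only [← e1, ← e2, e]))
  obtain ⟨N, _, hNE, hN⟩ := H5.exists_normal_le_card_eq hG E 1 (hc ▸ Nat.pow_le_pow_right h1.le (by omega))
  obtain ⟨W, _, hNW, hWE, hW, hWN⟩ := H5.exists_normal_cover hG (hlt hNE hN hc (by omega))
  rw [hN, ← pow_succ] at hW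
  obtain ⟨E', -, -, h3, h4, hEW⟩ := H5.exists_normal_cover hG (hlt hWE hW hc (by omega))
  obtain rfl : E' = E := eq_of_le_of_card_ge h3 (by rw [h4, hW, hc, ← pow_succ])
  rw [pow_one] at hN
  have hZ := H5.le_center_of_card_eq_prime hG N hN
  have hWe : IsElementaryAbelian p W := ⟨H48.isMulCommutative_of_card_sq hW, fun x hx => hE x (hWE hx)⟩
  haveI := hWe.1
  obtain ⟨x, hx, hxW⟩ := SetLike.exists_of_lt (hlt hWE hW hc (by omega))
  have hxD : x ∉ centralizer (W : Set G) := fun h => hxW (mem_of_rank hrk hWe hW h (hE x hx))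
  have hφ : ∀ g, ⁅x⁻¹, g⁆ ∈ W := fun g => hEW (commutator_mem_commutator (inv_mem hx) (mem_top g))
  let φ : centralizer (W : Set G) →* G := MonoidHom.mk' (fun g => ⁅x⁻¹, (g : G)⁆) fun g h =>
    H5.commutator_mul_right_of_commute (g.2 _ (hφ h)).symm
  have h5 : ∀ y ∈ W, ⁅x⁻¹, y⁆ ∈ N := fun y hy => comm_mem_comm (hWN (commutator_mem_commutator hy (mem_top _)))
  have h6 : ∀ y ∈ W, ⁅x⁻¹, y⁆ = 1 → y ∈ N := fun y hy e => (eq_of_le_of_card_ge
    (le_inf hNW (hZ.trans (center_le_centralizer {x⁻¹}))) (hN ▸ (card_le_of_lt (k := 1) (inf_lt_left.2 fun h =>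
      hxD (inv_mem_iff.1 fun w hw => (h hw _ rfl).symm)) hG hW.le).trans_eq (pow_one p))).ge
    ⟨hy, mem_centralizer_singleton_iff.2 (commutatorElement_eq_one_iff_mul_comm.1 e).symm⟩
  obtain ⟨g, hg, hg'⟩ : ∃ g, (∀ d, φ d ∈ N ⊔ zpowers (φ g)) ∧ (φ g = 1 ∨ φ g ∉ N) := by
    by_cases h : ∀ d, φ d ∈ N
    · exact ⟨1, fun d => mem_sup_left (h d), Or.inl (map_one φ)⟩
    obtain ⟨g, hg⟩ := not_forall.1 h
    exact ⟨g, fun d => (H5.eq_sup_zpowers_of_card hp.out hNW (by rw [hW, hN, pow_succ, pow_one])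
      (hφ g) hg).ge (hφ d), Or.inr hg⟩
  have h7 : ∀ u ∈ zpowers (φ g), u ∈ N → u = 1 := by
    rintro _ ⟨i, rfl⟩ hu
    rcases hg' with h | h
    · simp [h]
    obtain ⟨j, rfl⟩ := H5.dvd_of_zpow_mem hp.out h (hWe.2 _ (hφ g) ▸ one_mem N : φ g ^ p ∈ N) hu
    simp only [zpow_mul, zpow_natCast, show φ g ^ p = 1 from hWe.2 _ (hφ g), one_zpow]
  have h8 : ∀ k ∈ (zpowers (φ g)).comap φ, k ^ p = 1 → k ∈ N.subgroupOf _ := fun k hk e =>
    have := mem_of_rank hrk hWe hW k.2 (congrArg Subtype.val e)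
    h6 _ this (h7 _ hk (h5 _ this))
  have hND := hNW.trans W.le_centralizer
  obtain ⟨z, hz⟩ := H5.exists_zpowers_eq (H48.isCyclic_of_forall_pow_eq_one_mem h2
    ((hG.to_subgroup _).to_subgroup _) ((H48.isCyclic_subgroupOf_iff hND).2 (isCyclic_of_prime_card hN)) h8)
  obtain ⟨y, hy, hyN, hy'⟩ : ∃ y ∈ W, y ∉ N ∧ (φ z = 1 ∨ φ z = y) := by
    rcases hg' with h | h
    · obtain ⟨y, hy, hyN⟩ := SetLike.exists_of_lt (hlt hNW (hN.trans (pow_one p).symm) hW (by omega))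
      exact ⟨y, hy, hyN, Or.inl (by simpa [h] using hz.le (mem_zpowers z))⟩
    refine ⟨φ z, hφ z, fun h9 => h ?_, Or.inr rfl⟩
    obtain ⟨i, rfl⟩ := hz.ge (mem_zpowers (φ g))
    exact map_zpow φ z i ▸ zpow_mem h9 i
  let y' : centralizer (W : Set G) := ⟨y, W.le_centralizer hy⟩
  have h9 := eq_zpowers_of_card hN (h5 y hy) fun e => hyN (h6 y hy e)
  have h10 : zpowers z ⊔ zpowers y' = ⊤ := eq_top_iff.2 fun d _ => by
    obtain ⟨a, ha, i, e⟩ := (H5.mem_sup_zpowers_iff (le_normalizer_of_normal (mem_top _))).1 (hg d)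
    obtain ⟨j, rfl⟩ := h9.ge ha
    have : (y' ^ j)⁻¹ * d ∈ zpowers z := hz.ge ⟨i, by
      rw [map_mul, e, map_inv, map_zpow]; exact (inv_mul_cancel_left _ _).symm⟩
    simpa using mul_mem (mem_sup_right (zpow_mem_zpowers y' j)) (mem_sup_left this)
  have h11 := H5.card_sup_zpowers hp.out (K := zpowers z) (x := y') (centralizer_le_normalizer _
    fun k _ => Subtype.ext (k.2 y hy).symm) (fun h => hyN (h6 y hy (h7 _ (hz.le h) (h5 y hy))))
    (by rw [show y' ^ p = 1 from Subtype.ext (hWe.2 y hy)]; exact one_mem _)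
  obtain ⟨n, hn⟩ := IsPGroup.iff_orderOf.1 (hG.to_subgroup _) z
  obtain ⟨c, hc1, hc2⟩ := (bot_or_exists_ne_one N).resolve_left (by rintro rfl; simp at hN; omega)
  have h12 : (⟨c, hND hc1⟩ : centralizer (W : Set G)) ∈ zpowers z := hz.ge (mem_comap.2 (by
    rw [show φ ⟨c, hND hc1⟩ = 1 from commutatorElement_eq_one_iff_mul_comm.2 (mem_center_iff.1 (hZ hc1) _)]
    exact one_mem _))
  obtain _ | m := n
  · exact absurd (by simpa [orderOf_eq_one_iff.1 hn] using h12) hc2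
  have h13 : z ^ p ^ (m + 1) = 1 := hn ▸ pow_orderOf_eq_one z
  have h14 : (z : G) ^ p ^ m ∈ N := h8 _ (hz.le (npow_mem_zpowers z _)) (by rw [← pow_mul, ← pow_succ, h13])
  obtain ⟨s, hs⟩ := H48.exists_pow_eq_of_mem_zpowers ((eq_zpowers_of_card hN h14 fun e =>
    pow_ne_one_of_lt_orderOf (x := z) (pow_pos hp.out.pos m).ne' (hn ▸ Nat.pow_lt_pow_right h1 m.lt_succ_self)
      (Subtype.ext e)).ge (h5 y hy))
  have h15 := H5.card_le_card_centralizer_mul_pow hG 2 W hW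
  obtain ⟨M, h16, -, h17, h18⟩ := H5.exists_le_normal_index_eq hG
    (K := centralizer (W : Set G)) fun e => hxD (e ▸ mem_top x)
  obtain rfl : centralizer (W : Set G) = M := eq_of_le_of_card_ge h16 (Nat.le_of_mul_le_mul_right
    (by simpa [← M.card_mul_index, h17] using h15) hp.out.pos)
  refine ⟨x, y, z, m, s, ?_, eq_top_iff.2 ((H5.sup_zpowers_eq_top_of_isCoatom h18 hxD).ge.trans (sup_le
    (fun d hd => ?_) (zpowers_le.2 (subset_closure (by simp))))), hE x hx, hWe.2 y hy,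
    congrArg Subtype.val h13, z.2 y hy, hZ h14, ?_, ?_, ?_⟩
  · rw [← card_mul_index (centralizer (W : Set G)), h17, ← card_top, ← h10, h11, Nat.card_zpowers, hn]
    ring
  · exact (sup_le (zpowers_le.2 (subset_closure (by simp))) (zpowers_le.2 (subset_closure (by simp [y']))) :
      _ ≤ (closure {x, y, (z : G)}).subgroupOf _) (h10.ge (mem_top ⟨d, hd⟩))
  · rintro ⟨t, rfl⟩
    rw [pow_mul, hE _ (hNE h14), one_pow] at hs
    exact hyN (h6 y hy hs.symm)
  · rw [mem_center_iff.1 (pow_mem (hZ h14) s), hs]; group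
  have h19 : x⁻¹ * z * x = φ z * z := (by group : x⁻¹ * z * x = ⁅x⁻¹, (z : G)⁆ * z)
  refine hy'.imp (fun h => by rw [h19, h, one_mul]) fun h => ⟨Nat.pos_of_ne_zero ?_, by rw [h19, h]⟩
  rintro rfl
  exact hyN (h ▸ h5 _ (hNW (by simpa using h14)))

section three

variable [Fact (Nat.Prime 3)]

theorem mc_of_normal (hG : IsPGroup 3 G)
    (hrk : ∀ A : Subgroup G, IsElementaryAbelian 3 A → Nat.card A ≤ 3 ^ 2) {E N : Subgroup G} [E.Normal]
    (hE : MC 3 4 E) (hN : N ≤ center G) (hc : Nat.card N = 3) (h : ∀ x ∈ E, x ^ 3 ∈ N) :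
    ∃ s : G, Nat.card (centralizer ({s} : Set G)) ≤ 3 ^ 2 := by
  let W := (lc E 1).map E.subtype
  have hWc : Nat.card W = 3 ^ 2 :=
    (card_map_of_injective E.subtype_injective).trans (hE.card_lc (i := 0) rfl)
  have hW : IsElementaryAbelian 3 W := ⟨H48.isMulCommutative_of_card_sq hWc, by
    rintro _ ⟨x, hx, rfl⟩; exact congrArg Subtype.val (hE.pow_eq_one le_rfl hx)⟩
  haveI : W.Normal := inferInstance
  haveI := hW.1
  obtain ⟨s, -, hs⟩ := SetLike.exists_of_lt (hE.cm_ne_top (i := 1) le_rfl).lt_top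
  have hsD : (s : G) ∉ centralizer (W : Set G) := fun h1 => hs fun g hg => by
    rw [commutatorElement_eq_one_iff_mul_comm.2 (Subtype.ext (h1 g ⟨g, hg, rfl⟩).symm)]
    exact one_mem _
  have h1 := hE.card_centralizer_le (s := s) (fun h1 => hsD (W.le_centralizer ⟨s, h1, rfl⟩))
    fun i hi => (show i = 0 by omega) ▸ hs
  have hNp : ∀ x ∈ N, x ^ 3 = 1 := fun x hx => hc ▸ congrArg Subtype.val (pow_card_eq_one' (x := (⟨x, hx⟩ : N)))
  have hNW : N ≤ W := fun x hx => mem_of_rank hrk hW hWc (center_le_centralizer _ (hN hx)) (hNp x hx)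
  have h3 : centralizer {(s : G)} ⊓ centralizer W ⊓ E ≤ N := by
    refine (eq_of_le_of_card_ge (le_inf (le_inf (hN.trans (center_le_centralizer _))
      (hN.trans (center_le_centralizer _))) (hNW.trans (map_subtype_le _))) ?_).ge
    rw [← card_map_of_injective E.subtype_injective] at h1
    rw [hc]
    refine card_le_of_lt (k := 1) (lt_of_le_of_ne ?_ ?_) hG h1
    · exact fun x hx => ⟨⟨x, hx.2⟩, mem_centralizer_singleton_iff.2 (Subtype.ext (hx.1.1 s rfl).symm), rfl⟩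
    · exact fun e => hsD (e.ge ⟨s, mem_centralizer_singleton_iff.2 rfl, rfl⟩).1.2
  obtain ⟨a, ha, h4⟩ := SetLike.not_le_iff_exists.1 fun h4 : E ⊓ centralizer W ≤ W => by
    have h5 := H5.card_le_card_inf_centralizer_mul hG E 2 W hWc
    have := card_le_of_le h4
    rw [hE.card] at h5
    simp only [Nat.choose_self] at h5
    omega
  have hr := (ar_of_index_le (by omega) (index_le_of_rank (by omega) hG hrk hW hWc)).reg1
    (hG.to_subgroup _)
  replace ha := mem_inf.1 ha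
  have h5 : centralizer {(s : G)} ⊓ centralizer W ≤ N := fun c hc1 => by_contra fun h5 => by
    obtain ⟨k, hk⟩ := hG c
    obtain ⟨j, h6, h7⟩ := H5.exists_pow_not_mem_pow_mem h5 (hk ▸ one_mem N : c ^ 3 ^ k ∈ N)
    have h8 := pow_mem hc1 (3 ^ j)
    obtain ⟨i, hi⟩ : (c ^ 3 ^ j) ^ 3 ∈ zpowers (a ^ 3) := (eq_of_le_of_card_ge (zpowers_le.2 (h a ha.1))
      (by rw [Nat.card_zpowers, orderOf_eq_prime (hNp _ (h a ha.1))
        fun e => h4 (mem_of_rank hrk hW hWc ha.2 e), hc])).ge h7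
    have h9 := (hr.pow_eq_iff_one (hG.to_subgroup _) ⟨_, h8.2⟩ ⟨_, zpow_mem ha.2 i⟩).1 (Subtype.ext (by
      simp only [SubmonoidClass.mk_pow]
      rw [← hi, ← zpow_natCast (a ^ i), ← zpow_mul, mul_comm, zpow_mul, zpow_natCast]))
    have h10 := map_subtype_le _ (mem_of_rank hrk hW hWc (mul_mem h8.2 (inv_mem (zpow_mem ha.2 i)))
      (congrArg Subtype.val h9))
    exact h6 (h3 ⟨h8, by simpa using mul_mem h10 (zpow_mem ha.1 i)⟩)
  have h6 := H5.card_le_card_inf_centralizer_mul hG (centralizer {(s : G)}) 2 W hWc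
  have := card_le_of_le h5
  simp only [Nat.choose_self] at h6
  exact ⟨s, by omega⟩

/-- Blackburn's theorem on `3`-groups without normal subgroups of order `27` and exponent `3`. -/
theorem ar_or_mc (n : ℕ) : ∀ (G : Type u) [Group G] [Finite G], Nat.card G = n → IsPGroup 3 G →
    (∀ E : Subgroup G, E.Normal → Nat.card E = 3 ^ 3 → ¬ ∀ x ∈ E, x ^ 3 = 1) →
      AR 3 G ∨ ∃ m, MC 3 m G := by
  induction n using Nat.strong_induction_on with
  | _ n ih =>
  intro G _ _ hn hG h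
  have h0 : ∀ E : Subgroup G, E.Normal → (∀ x ∈ E, x ^ 3 = 1) → Nat.card E < 3 ^ 3 := fun E _ hE =>
    not_le.1 fun h1 => let ⟨K, h2, h3, h4⟩ := H5.exists_normal_le_card_eq hG E 3 h1
      h K h2 h4 fun x hx => hE x (h3 hx)
  have hrk := H5.card_le_sq_of_no_normal_cube (by omega) hG fun A h1 h2 h3 => h A h1 h3 h2.2
  refine or_iff_not_imp_left.2 fun h1 => ?_
  haveI := powerClosure_normal (p := 3) (n := 1) (⊤ : Subgroup G)
  obtain ⟨N, _, h2, h3⟩ := H5.exists_normal_le_card_eq hG (powerClosure 3 1 ⊤) 1 (not_lt.1 fun h2 => by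
    have h3 : powerClosure 3 1 (⊤ : Subgroup G) = ⊥ := by_contra fun h3 => by
      have := card_mul_le_of_lt (hG.to_subgroup _) (bot_lt_iff_ne_bot.2 h3)
      rw [card_bot] at this
      omega
    refine h1 ?_
    rw [AR, h3, index_bot, ← card_top]
    exact h0 ⊤ inferInstance fun x hx => mem_bot.1 (h3 ▸ pow_mem_powerClosure_one hx))
  have hN := H5.le_center_of_card_eq_prime hG N h3
  have hNp : ∀ x ∈ N, x ^ 3 = 1 := fun x hx => congrArg Subtype.val
    ((congrArg (_ ^ ·) h3).symm.trans (pow_card_eq_one' (x := (⟨x, hx⟩ : N))))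
  have hf := QuotientGroup.mk'_surjective N
  obtain ⟨m, hm⟩ := IsPGroup.iff_card.1 hG
  have h4 : 3 ≤ m := (Nat.pow_le_pow_iff_right (by omega)).1
    ((not_lt.1 h1).trans (hm ▸ Nat.le_of_dvd Nat.card_pos (index_dvd_card _)))
  by_cases h5 : ∀ E : Subgroup (G ⧸ N), E.Normal → Nat.card E = 3 ^ 3 → ¬ ∀ x ∈ E, x ^ 3 = 1
  · obtain h6 | ⟨k, h6⟩ := ih _ (hn ▸ H1.card_quotient_lt (by rintro rfl; simp at h3)) _ rfl
      (hG.to_quotient N) h5
    · rw [AR, ← map_top_of_surjective _ hf, ← map_powerClosure,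
        index_map_eq _ hf (by rwa [QuotientGroup.ker_mk'])] at h6
      exact absurd h6 h1
    obtain ⟨k, rfl⟩ := Nat.exists_eq_add_of_le' h6.three
    refine ⟨k + 4, by rw [card_eq_card_quotient_mul_card_subgroup N, h6.card, h3, ← pow_add],
      by omega, fun h7 => h1 ?_⟩
    obtain ⟨g, -, h8⟩ := SetLike.exists_of_lt (lt_top_iff_ne_top.2 fun e =>
      h6.ne (eq_bot_iff.2 ((cm_eq_top_iff (K := lc _ k) (N := ⊥)).1 e)))
    obtain ⟨g, rfl⟩ := hf g
    obtain ⟨w, hw', h8⟩ := not_forall₂.1 h8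
    obtain ⟨w, hw, rfl⟩ := (map_lc hf k).ge hw'
    have h9 : ⁅g, w⁆ ∈ center G := mem_center_iff.2 fun x => commutatorElement_eq_one_iff_mul_comm.1
      (mem_bot.1 (h7 ▸ comm_mem_lc_succ x (comm_mem_lc_succ g hw)))
    have h10 : ⁅g, w⁆ ^ 3 = 1 := by
      obtain ⟨u, hu, e⟩ := (map_lc hf 1).ge (h6.pow_mem_lc_one (QuotientGroup.mk' N g))
      have h10 := mem_center_iff.1 (hN (QuotientGroup.eq.1 (show (u : G ⧸ N) = (g ^ 3 : G) from e))) w
      have h11 : ⁅u, w⁆ ∈ lc G (k + 4 - 2) := lc_anti (by omega) (comm_mem_lc hu hw)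
      rw [h7, mem_bot, commutatorElement_eq_one_iff_mul_comm] at h11
      rw [← H5.commutator_pow_left (mem_center_iff.1 h9 g), commutatorElement_eq_one_iff_mul_comm,
        ← mul_inv_cancel_left u (g ^ 3), mul_assoc, ← h10, ← mul_assoc, h11, mul_assoc]
    have h11 : N ⊔ zpowers ⁅g, w⁆ ≤ center G := sup_le hN (zpowers_le.2 h9)
    have h12 : Nat.card (N ⊔ zpowers ⁅g, w⁆ : Subgroup G) = 3 ^ 2 := by
      rw [H5.card_sup_zpowers Fact.out (le_normalizer_of_normal (mem_top _))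
        (fun e => h8 ((QuotientGroup.eq_one_iff ⁅g, w⁆).2 e)) (h10 ▸ one_mem _), h3]; rfl
    have h13 := index_le_of_rank (by omega) hG hrk ⟨H48.isMulCommutative_of_card_sq h12, fun x hx => by
      obtain ⟨y, hy, i, rfl⟩ := (H5.mem_sup_zpowers_iff (le_normalizer_of_normal (mem_top _))).1 hx
      rw [Commute.mul_pow (mem_center_iff.1 (hN hy) _).symm, hNp y hy, ← zpow_natCast, ← zpow_mul,
        mul_comm i, zpow_mul, zpow_natCast, h10, one_zpow, mul_one]⟩ h12
    exact (ar_of_index_le (by omega) h13).of_surjective (f := Subgroup.subtype _)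
      fun x => ⟨⟨x, fun y hy => (mem_center_iff.1 (h11 hy) x).symm⟩, rfl⟩
  push Not at h5
  obtain ⟨E, _, h5, h6⟩ := h5
  have h7 : ∀ x ∈ E.comap (QuotientGroup.mk' N), x ^ 3 ∈ N := fun x hx =>
    (QuotientGroup.eq_one_iff (x ^ 3)).1 (h6 _ hx)
  have h8 : Nat.card (E.comap (QuotientGroup.mk' N)) = 3 ^ 4 := by
    rw [H1.card_comap_mk', h5, h3]; rfl
  obtain ⟨s, hs⟩ := mc_of_normal hG hrk ⟨h8, by omega, fun h9 => by
    have hE := hG.to_subgroup (E.comap (QuotientGroup.mk' N))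
    have hr : Reg1 3 (E.comap (QuotientGroup.mk' N)) :=
      reg1_of_class_lt Fact.out fun a b => eq_bot_iff.2 (h9 ▸ lowerCentralSeries_mono _ le_top)
    haveI := hr.omega_characteristic hE 1
    have h10 := h0 ((hr.omega hE 1).map (Subgroup.subtype _)) inferInstance (by
      rintro _ ⟨x, hx, rfl⟩; exact congrArg Subtype.val ((hr.mem_omega hE).1 hx))
    have h11 := (powerClosure 3 1 (⊤ : Subgroup (E.comap (QuotientGroup.mk' N)))).card_mul_index
    have h12 := card_le_of_le (map_le_iff_le_comap.2 (powerClosure_le_iff.2 fun x _ => h7 x x.2) :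
      (powerClosure 3 1 ⊤).map (E.comap (QuotientGroup.mk' N)).subtype ≤ N)
    rw [card_map_of_injective (subtype_injective _)] at h10 h12
    rw [← Reg1.card_omega hE hr, h8] at h11
    nlinarith⟩ hN h3 h7
  obtain ⟨m, rfl⟩ := Nat.exists_eq_add_of_le' (show 2 ≤ m by omega)
  exact ⟨_, mc_of_class hm h4 (H5.nilpotencyClass_eq_of_card_centralizer_le m G hm s hs)⟩

end three

end H93
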